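import Groth.Agent.Lib.Misc24.EtalePoint

/-!
# Every point of the small étale site is isomorphic to a geometric point
-/

universe u

open CategoryTheory CategoryTheory.Limits AlgebraicGeometry Opposite Polynomial

namespace Groth.Agent.Misc24

attribute [local instance] isLocalRing_ptRing isSepClosed_ptField

variable {S : Scheme.{u}} (p : GrothendieckTopology.Point.{u} S.smallEtaleTopology)

lemma geom_eq {B C : CommRingCat.{u}} (i : Spec B ⟶ S) [AlgebraicGeometry.Etale i]
    (x : p.fiber.obj (Scheme.Etale.mk i)) (j : Spec C ⟶ S) [AlgebraicGeometry.Etale j]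
    (y : p.fiber.obj (Scheme.Etale.mk j)) :
    Spec.map (sigmaP p B i x) ≫ i = Spec.map (sigmaP p C j y) ≫ j := by
  obtain ⟨D, k, hk, z, g, h, ψ, χ, hg, hh, hψ, hχ, -, -⟩ := exists_refine_pt p i x j y
  rw [← sigmaP_map p B i x k z g ψ hψ hg, ← sigmaP_map p C j y k z h χ hχ hh, Spec.map_comp,
    Spec.map_comp, Category.assoc, Category.assoc]
  refine congrArg (Spec.map (sigmaP p D k z) ≫ ·) ?_
  rw [hψ, hχ]
  exact (MorphismProperty.Over.w g).trans (MorphismProperty.Over.w h).symm

lemma exists_geom : ∃ ξ : Spec (CommRingCat.of (ptField p)) ⟶ S, ∀ (B : CommRingCat.{u}) (i : Spec B ⟶ S)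
    [AlgebraicGeometry.Etale i] (x : p.fiber.obj (Scheme.Etale.mk i)),
    Spec.map (sigmaP p B i x) ≫ i = ξ := by
  have := p.uniqueFiberObj (EtCoh.top S) (MorphismProperty.Over.mkIdTerminal _ _)
  obtain ⟨B, i, hi, x, -, -⟩ := exists_affine_pt p (EtCoh.top S) default
  exact ⟨_, fun C j _ y => geom_eq p j y i x⟩

/-- The geometric point of a point. -/
noncomputable def ptGeom : Spec (CommRingCat.of (ptField p)) ⟶ S := (exists_geom p).choose

lemma ptGeom_spec {B : CommRingCat.{u}} (i : Spec B ⟶ S) [AlgebraicGeometry.Etale i]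
    (x : p.fiber.obj (Scheme.Etale.mk i)) : Spec.map (sigmaP p B i x) ≫ i = ptGeom p :=
  (exists_geom p).choose_spec B i x

/-- The element of the geometric fibre at an affine neighbourhood. -/
noncomputable def thetaAff {B : CommRingCat.{u}} (i : Spec B ⟶ S) [AlgebraicGeometry.Etale i]
    (x : p.fiber.obj (Scheme.Etale.mk i)) :
    (Scheme.pointSmallEtale (ptGeom p)).fiber.obj (Scheme.Etale.mk i) :=
  Over.homMk (Spec.map (sigmaP p B i x)) (ptGeom_spec p i x)

lemma thetaAff_indep {V : S.Etale} {B C : CommRingCat.{u}} (i : Spec B ⟶ S) [AlgebraicGeometry.Etale i]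
    (x : p.fiber.obj (Scheme.Etale.mk i)) (g : Scheme.Etale.mk i ⟶ V)
    (j : Spec C ⟶ S) [AlgebraicGeometry.Etale j]
    (y : p.fiber.obj (Scheme.Etale.mk j)) (h : Scheme.Etale.mk j ⟶ V) (e : p.fiber.map g x = p.fiber.map h y) :
    (Scheme.pointSmallEtale (ptGeom p)).fiber.map g (thetaAff p i x) =
      (Scheme.pointSmallEtale (ptGeom p)).fiber.map h (thetaAff p j y) := by
  obtain ⟨⟨W, w⟩, ⟨gB, hgB⟩, ⟨gC, hgC⟩, -⟩ := IsCofilteredOrEmpty.cone_objs
    (C := p.fiber.Elements) ⟨Scheme.Etale.mk i, x⟩ ⟨Scheme.Etale.mk j, y⟩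
  dsimp at hgB hgC
  obtain ⟨⟨W', w'⟩, ⟨q, hq⟩, hcoe⟩ := IsCofilteredOrEmpty.cone_maps (C := p.fiber.Elements)
    (CategoryOfElements.homMk ⟨W, w⟩ ⟨V, p.fiber.map g x⟩ (gB ≫ g) (by
      show p.fiber.map (gB ≫ g) w = _
      rw [Functor.map_comp_apply, hgB]))
    (CategoryOfElements.homMk ⟨W, w⟩ ⟨V, p.fiber.map g x⟩ (gC ≫ h) (by
      show p.fiber.map (gC ≫ h) w = _
      rw [Functor.map_comp_apply, hgC, e]))
  have hc : q ≫ gB ≫ g = q ≫ gC ≫ h := congrArg Subtype.val hcoe
  dsimp at hq
  obtain ⟨D, k, hk, z, r, hr⟩ := exists_affine_pt p W' w'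
  have key : ∀ {E : CommRingCat.{u}} (l : Spec E ⟶ S) [AlgebraicGeometry.Etale l]
      (v : p.fiber.obj (Scheme.Etale.mk l)) (a : W ⟶ Scheme.Etale.mk l), p.fiber.map a w = v →
      (Scheme.pointSmallEtale (ptGeom p)).fiber.map (r ≫ q ≫ a) (thetaAff p k z) = thetaAff p l v := by
    intro E l _ v a ha
    obtain ⟨ψ, hψ⟩ := Spec.map_surjective (r ≫ q ≫ a).left
    refine Over.OverMorphism.ext ?_
    show Spec.map (sigmaP p D k z) ≫ (r ≫ q ≫ a).left = Spec.map (sigmaP p E l v)
    rw [← hψ]
    refine (Spec.map_comp _ _).symm.trans (congrArg Spec.map (sigmaP_map p E l v k z (r ≫ q ≫ a) ψ hψ ?_))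
    rw [Functor.map_comp_apply, Functor.map_comp_apply, hr, hq, ha]
  rw [← key i x gB hgB, ← key j y gC hgC, ← Functor.map_comp_apply, ← Functor.map_comp_apply,
    Category.assoc, Category.assoc, Category.assoc, Category.assoc, hc]

/-- The comparison of fibres. -/
noncomputable def theta (V : S.Etale) (v : p.fiber.obj V) : (Scheme.pointSmallEtale (ptGeom p)).fiber.obj V :=
  haveI := (exists_affine_pt p V v).choose_spec.choose_spec.choose
  (Scheme.pointSmallEtale (ptGeom p)).fiber.map
    (exists_affine_pt p V v).choose_spec.choose_spec.choose_spec.choose_spec.choose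
    (thetaAff p (exists_affine_pt p V v).choose_spec.choose
      (exists_affine_pt p V v).choose_spec.choose_spec.choose_spec.choose)

lemma theta_eq {V : S.Etale} {B : CommRingCat.{u}} (i : Spec B ⟶ S) [AlgebraicGeometry.Etale i]
    (x : p.fiber.obj (Scheme.Etale.mk i)) (g : Scheme.Etale.mk i ⟶ V) :
    theta p V (p.fiber.map g x) = (Scheme.pointSmallEtale (ptGeom p)).fiber.map g (thetaAff p i x) := by
  haveI := (exists_affine_pt p V (p.fiber.map g x)).choose_spec.choose_spec.choose
  exact thetaAff_indep p _ _ _ i x g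
    (exists_affine_pt p V (p.fiber.map g x)).choose_spec.choose_spec.choose_spec.choose_spec.choose_spec

lemma theta_nat {V W : S.Etale} (a : V ⟶ W) (v : p.fiber.obj V) :
    theta p W (p.fiber.map a v) = (Scheme.pointSmallEtale (ptGeom p)).fiber.map a (theta p V v) := by
  obtain ⟨B, i, hi, x, g, rfl⟩ := exists_affine_pt p V v
  rw [← Functor.map_comp_apply, theta_eq, theta_eq, ← Functor.map_comp_apply]

lemma exists_shrink {B : CommRingCat.{u}} (i : Spec B ⟶ S) [AlgebraicGeometry.Etale i]
    (x : p.fiber.obj (Scheme.Etale.mk i)) (e : B) (he : sigmaP p B i x e ≠ 0) :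
    ∃ (_ : AlgebraicGeometry.Etale (Spec.map (CommRingCat.ofHom (algebraMap B (Localization.Away e))) ≫ i))
      (x' : p.fiber.obj (Scheme.Etale.mk (Spec.map (CommRingCat.ofHom (algebraMap B (Localization.Away e))) ≫ i))),
      p.fiber.map (MorphismProperty.Over.homMk (Spec.map (CommRingCat.ofHom (algebraMap B (Localization.Away e)))) rfl :
        Scheme.Etale.mk (Spec.map (CommRingCat.ofHom (algebraMap B (Localization.Away e))) ≫ i) ⟶
          Scheme.Etale.mk i) x' = x := by
  have : IsOpenImmersion (Spec.map (CommRingCat.ofHom (algebraMap B (Localization.Away e)))) :=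
    IsOpenImmersion.of_isLocalization e
  obtain ⟨x', hx', -⟩ := exists_lift_etale p B i x (CommRingCat.of (Localization.Away e))
    (CommRingCat.ofHom (algebraMap B (Localization.Away e))) (ptField p)
    (IsLocalization.Away.lift e (g := (sigmaP p B i x).hom) (isUnit_iff_ne_zero.2 he)) (RingHom.id _)
    ((IsLocalization.Away.lift_comp e _).trans (RingHom.id_comp _).symm)
  exact ⟨inferInstance, x', hx'⟩

lemma theta_injective (V : S.Etale) : Function.Injective (theta p V) := by
  intro v v' h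
  obtain ⟨B₁, i₁, hi₁, x₁, g₁, rfl⟩ := exists_affine_pt p V v
  obtain ⟨B₂, i₂, hi₂, x₂, g₂, rfl⟩ := exists_affine_pt p V v'
  obtain ⟨D, k, hk, z, a₁, a₂, -, -, ha₁, ha₂, -, -, -, -⟩ := exists_refine_pt p i₁ x₁ i₂ x₂
  rw [← ha₁, ← ha₂, ← Functor.map_comp_apply, ← Functor.map_comp_apply] at h ⊢
  let c₁ := a₁ ≫ g₁
  let c₂ := a₂ ≫ g₂
  rw [theta_eq, theta_eq] at h
  have hσ : Spec.map (sigmaP p D k z) ≫ c₁.left = Spec.map (sigmaP p D k z) ≫ c₂.left :=
    congrArg (fun t => t.left) h
  let vh : V.left ⟶ S := V.hom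
  have : AlgebraicGeometry.Etale vh := V.prop
  have hw : c₁.left ≫ vh = c₂.left ≫ vh :=
    (MorphismProperty.Over.w c₁).trans (MorphismProperty.Over.w c₂).symm
  let m : Spec D ⟶ pullback vh vh := pullback.lift c₁.left c₂.left hw
  let O : (Spec D).Opens := m ⁻¹ᵁ (pullback.diagonal vh).opensRange
  let pt : Spec D := Spec.map (sigmaP p D k z) default
  have hpt : pt ∈ O := by
    show m pt ∈ Set.range (pullback.diagonal vh)
    refine ⟨c₁.left pt, ?_⟩
    have e : Spec.map (sigmaP p D k z) ≫ c₁.left ≫ pullback.diagonal vh = Spec.map (sigmaP p D k z) ≫ m := by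
      refine pullback.hom_ext ?_ ?_
      · rw [Category.assoc, Category.assoc, Category.assoc, pullback.diagonal_fst, pullback.lift_fst]
        exact congrArg (_ ≫ ·) (Category.comp_id _)
      · rw [Category.assoc, Category.assoc, Category.assoc, pullback.diagonal_snd, pullback.lift_snd]
        exact (congrArg (_ ≫ ·) (Category.comp_id _)).trans hσ
    exact ((Scheme.Hom.comp_apply _ _ _).trans (congrArg (pullback.diagonal vh) (Scheme.Hom.comp_apply _ _ _))).symm.trans
      ((congrArg (fun t : Spec (CommRingCat.of (ptField p)) ⟶ pullback vh vh => t default)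
        ((Category.assoc _ _ _).trans e)).trans (Scheme.Hom.comp_apply _ _ _))
  obtain ⟨_, ⟨e, rfl⟩, hep, hsub⟩ :=
    PrimeSpectrum.isTopologicalBasis_basic_opens.exists_subset_of_mem_open hpt O.2
  have he : sigmaP p D k z e ≠ 0 := fun h0 => hep (by
    have hm : (sigmaP p D k z).hom e ∈ ((default : Spec (CommRingCat.of (ptField p))) :
        PrimeSpectrum (ptField p)).asIdeal := by
      rw [show (sigmaP p D k z).hom e = 0 from h0]
      exact zero_mem _
    exact hm)
  obtain ⟨_, z', hz'⟩ := exists_shrink p k z e he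
  let l : Spec (CommRingCat.of (Localization.Away e)) ⟶ Spec D :=
    Spec.map (CommRingCat.ofHom (algebraMap D (Localization.Away e)))
  have hr : Set.range (l ≫ m) ⊆ Set.range (pullback.diagonal vh) := by
    rintro _ ⟨a, rfl⟩
    rw [Scheme.Hom.comp_apply]
    exact hsub ((PrimeSpectrum.localization_away_comap_range (Localization.Away e) e).le ⟨a, rfl⟩)
  have hfac := IsOpenImmersion.lift_fac (pullback.diagonal vh) (l ≫ m) hr
  have heq : l ≫ c₁.left = l ≫ c₂.left := by
    have h1 := congrArg (· ≫ pullback.fst vh vh) hfac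
    have h2 := congrArg (· ≫ pullback.snd vh vh) hfac
    simp only [Category.assoc, pullback.diagonal_fst, pullback.diagonal_snd, Category.comp_id, m,
      pullback.lift_fst, pullback.lift_snd] at h1 h2
    exact h1.symm.trans h2
  rw [← hz', ← Functor.map_comp_apply, ← Functor.map_comp_apply]
  exact congrArg (fun t => p.fiber.map t z') (MorphismProperty.Over.Hom.ext heq)

lemma theta_surjective (V : S.Etale) : Function.Surjective (theta p V) := by
  intro φ
  have := p.uniqueFiberObj (EtCoh.top S) (MorphismProperty.Over.mkIdTerminal _ _)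
  obtain ⟨B, i, hi, x, -, -⟩ := exists_affine_pt p (EtCoh.top S) default
  let vh : V.left ⟶ S := V.hom
  have : AlgebraicGeometry.Etale vh := V.prop
  let φl : Spec (CommRingCat.of (ptField p)) ⟶ V.left := φ.left
  have hφ : φl ≫ vh = Spec.map (sigmaP p B i x) ≫ i := (Over.w φ).trans (ptGeom_spec p i x).symm
  let m : Spec (CommRingCat.of (ptField p)) ⟶ pullback vh i := pullback.lift φl _ hφ
  obtain ⟨C, o, ho, hmem, -⟩ := Scheme.exists_affine_mem_range_and_range_subset
    (x := m default) (U := (⊤ : (pullback vh i).Opens)) trivial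
  have hrange : Set.range m ⊆ Set.range o := by
    rintro _ ⟨t, rfl⟩
    rwa [show t = default from Subsingleton.elim (α := PrimeSpectrum (ptField p)) _ _]
  obtain ⟨τ, hτ⟩ := Spec.map_surjective (IsOpenImmersion.lift o m hrange)
  have hτo : Spec.map τ ≫ o = m := by rw [hτ, IsOpenImmersion.lift_fac]
  obtain ⟨ψ, hψ⟩ := Spec.map_surjective (o ≫ pullback.snd vh i)
  have : AlgebraicGeometry.Etale (Spec.map ψ) := by rw [hψ]; infer_instance
  have hψτ : ψ ≫ τ = sigmaP p B i x := Spec.map_injective (by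
    rw [Spec.map_comp, hψ, ← Category.assoc, hτo, pullback.lift_snd])
  let _ := ψ.hom.toAlgebra
  have : Algebra.Etale B C := HasRingHomProperty.Spec_iff.1 (‹_› : AlgebraicGeometry.Etale (Spec.map ψ))
  let Q : Ideal C := RingHom.ker τ.hom
  have : Q.IsPrime := RingHom.ker_isPrime _
  obtain ⟨f, hfQ, ⟨⟨P⟩⟩⟩ := Algebra.IsEtaleAt.exists_isStandardEtale (R := B) (S := C) Q
  let τf : Localization.Away f →+* ptField p :=
    IsLocalization.Away.lift f (g := τ.hom) (isUnit_iff_ne_zero.2 hfQ)
  have hτf : ∀ c : C, τf (algebraMap C _ c) = τ c := IsLocalization.Away.lift_eq f _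
  let s := (sigmaP p B i x).hom
  have hτs : τf.comp (algebraMap B (Localization.Away f)) = s := RingHom.ext fun b => by
    rw [RingHom.comp_apply, IsScalarTower.algebraMap_apply B C (Localization.Away f), hτf]
    exact ConcreteCategory.congr_hom hψτ b
  let w := τf P.x
  have hev : ∀ q : B[X], q.eval₂ s w = τf (aeval P.x q) := fun q => by
    rw [← hτs]; exact (Polynomial.hom_eval₂ q _ τf P.x).symm
  have hw : P.P.f.eval₂ s w = 0 := by rw [hev, P.hasMap.1, map_zero]
  have hg : P.P.g.eval₂ s w ≠ 0 := by rw [hev]; exact (P.hasMap.2.map τf).ne_zero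
  have hw' : P.P.f.derivative.eval₂ s w ≠ 0 := by
    rw [hev]; exact (P.hasMap.isUnit_derivative_f.map τf).ne_zero
  obtain ⟨D, k, hk, z, g, χ, a, hgz, hχ, hfa, hσa⟩ := exists_root_pt p i x P.P.f P.P.monic_f w hw hw'
  let sD := (sigmaP p D k z).hom
  have hsD : sD.comp χ.hom = s := congrArg CommRingCat.Hom.hom (sigmaP_map p B i x k z g χ hχ hgz)
  let e := P.P.g.eval₂ χ.hom a
  have he : sigmaP p D k z e ≠ 0 := by
    show sD (P.P.g.eval₂ χ.hom a) ≠ 0
    rw [Polynomial.hom_eval₂, hsD, show sD a = w from hσa]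
    exact hg
  obtain ⟨_, z', hz'⟩ := exists_shrink p k z e he
  let E := Localization.Away e
  let _ : Algebra B E := ((algebraMap D E).comp χ.hom).toAlgebra
  have hmap : P.P.HasMap (algebraMap D E a) := by
    refine ⟨?_, ?_⟩
    · show P.P.f.eval₂ ((algebraMap D E).comp χ.hom) _ = 0
      rw [← Polynomial.hom_eval₂, hfa, map_zero]
    · show IsUnit (P.P.g.eval₂ ((algebraMap D E).comp χ.hom) _)
      rw [← Polynomial.hom_eval₂]
      exact IsLocalization.Away.algebraMap_isUnit e
  let L : Localization.Away f →ₐ[B] E := (P.P.lift _ hmap).comp P.equivRing.toAlgHom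
  have hLx : L P.x = algebraMap D E a := by
    show P.P.lift _ hmap (P.equivRing P.x) = _
    rw [StandardEtalePresentation.equivRing_x, StandardEtalePair.lift_X]
  let cl : C ⟶ CommRingCat.of E := CommRingCat.ofHom (L.toRingHom.comp (algebraMap C (Localization.Away f)))
  let k' := Spec.map (CommRingCat.ofHom (algebraMap D E)) ≫ k
  have hcl : Spec.map cl ≫ o ≫ pullback.fst vh i ≫ vh = k' := by
    rw [pullback.condition, ← Category.assoc o, ← hψ, ← Category.assoc, ← Spec.map_comp]
    have hψcl : ψ ≫ cl = χ ≫ CommRingCat.ofHom (algebraMap D E) := CommRingCat.hom_ext (RingHom.ext fun b =>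
      (congrArg L (IsScalarTower.algebraMap_apply B C (Localization.Away f) b).symm).trans (L.commutes b))
    rw [hψcl, Spec.map_comp, Category.assoc, hχ]
    exact congrArg (_ ≫ ·) (MorphismProperty.Over.w g)
  let G : Scheme.Etale.mk k' ⟶ V := MorphismProperty.Over.homMk (Spec.map cl ≫ o ≫ pullback.fst vh i)
    ((Category.assoc _ _ _).trans ((congrArg (Spec.map cl ≫ ·) (Category.assoc _ _ _)).trans hcl))
  refine ⟨p.fiber.map G z', ?_⟩
  rw [theta_eq]
  refine Over.OverMorphism.ext ?_
  show Spec.map (sigmaP p _ k' z') ≫ Spec.map cl ≫ o ≫ pullback.fst vh i = φl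
  have hcτ : cl ≫ sigmaP p _ k' z' = τ := by
    have hσ' : CommRingCat.ofHom (algebraMap D E) ≫ sigmaP p _ k' z' = sigmaP p D k z :=
      sigmaP_map p D k z k' z' _ _ rfl hz'
    let sE := (sigmaP p _ k' z').hom
    have hsE : ∀ d, sE (algebraMap D E d) = sD d := fun d => ConcreteCategory.congr_hom hσ' d
    let _ := s.toAlgebra
    let A₁ : Localization.Away f →ₐ[B] ptField p :=
      { sE.comp L.toRingHom with
        commutes' := fun b => by
          show sE (L (algebraMap B _ b)) = s b
          rw [L.commutes]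
          exact (hsE _).trans (congr($hsD b)) }
    let A₂ : Localization.Away f →ₐ[B] ptField p := { τf with commutes' := fun b => congr($hτs b) }
    have hA : A₁ = A₂ := P.hom_ext (by
      show sE (L P.x) = τf P.x
      rw [hLx, hsE]
      exact hσa)
    exact CommRingCat.hom_ext (RingHom.ext fun c => (congr($hA (algebraMap C _ c))).trans (hτf c))
  rw [← Category.assoc, ← Spec.map_comp, hcτ, ← Category.assoc, hτo, pullback.lift_fst]

theorem exists_geometric_iso :
    ∃ (Ω : Type u) (_ : Field Ω) (_ : IsSepClosed Ω) (ξ : Spec (CommRingCat.of Ω) ⟶ S),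
      Nonempty (p.fiber ≅ (Scheme.pointSmallEtale ξ).fiber) :=
  ⟨ptField p, inferInstance, inferInstance, ptGeom p, ⟨NatIso.ofComponents
    (fun V => (Equiv.ofBijective (theta p V) ⟨theta_injective p V, theta_surjective p V⟩).toIso)
    (fun a => ConcreteCategory.hom_ext _ _ fun v => theta_nat p a v)⟩⟩

end Groth.Agent.Misc24
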