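import Mathlib

/-!
# A cover of a quasi-compact scheme by an affine scheme with algebraically closed residue fields
-/

universe u

open CategoryTheory CategoryTheory.Limits AlgebraicGeometry Polynomial

namespace Groth.Agent.Misc24

/-- The fraction field of a domain in which every monic polynomial has a root is algebraically closed. -/
lemma isAlgClosed_fraction (D K : Type u) [CommRing D] [IsDomain D] [Field K] [Algebra D K]
    [IsFractionRing D K] (h : ∀ p : D[X], p.Monic → p.natDegree ≠ 0 → ∃ r, p.eval r = 0) :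
    IsAlgClosed K := by
  let i : D →+* AlgebraicClosure K := algebraMap D (AlgebraicClosure K)
  have key : ∀ (n : ℕ) (p : D[X]) (y : AlgebraicClosure K), p.natDegree = n → p.Monic →
      p.eval₂ i y = 0 → ∃ d, i d = y := by
    intro n
    induction n with
    | zero =>
      intro p y hd hp hy
      rw [Polynomial.Monic.natDegree_eq_zero hp |>.1 hd] at hy
      simp at hy
    | succ n ih =>
      intro p y hd hp hy
      obtain ⟨r, hr⟩ := h p hp (by omega)
      obtain ⟨q, rfl⟩ := (Polynomial.dvd_iff_isRoot.2 hr : X - C r ∣ p)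
      have hq : q.Monic := (monic_X_sub_C r).of_mul_monic_left hp
      rw [(monic_X_sub_C r).natDegree_mul hq, natDegree_X_sub_C] at hd
      rw [eval₂_mul, mul_eq_zero] at hy
      rcases hy with hy | hy
      · rw [eval₂_sub, eval₂_X, eval₂_C, sub_eq_zero] at hy
        exact ⟨r, hy.symm⟩
      · exact ih q y (by omega) hq hy
  have hsurj : Function.Surjective (algebraMap K (AlgebraicClosure K)) := by
    intro x
    have halg : IsAlgebraic D x :=
      (IsFractionRing.isAlgebraic_iff D K (AlgebraicClosure K)).2 (Algebra.IsAlgebraic.isAlgebraic x)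
    obtain ⟨d, hd, p, hp, hev⟩ := halg.exists_integral_multiple
    obtain ⟨e, he⟩ := key _ p _ rfl hp hev
    refine ⟨algebraMap D K e / algebraMap D K d, ?_⟩
    have hd' : i d ≠ 0 := by
      show algebraMap D (AlgebraicClosure K) d ≠ 0
      rw [IsScalarTower.algebraMap_apply D K (AlgebraicClosure K), _root_.map_ne_zero]
      exact fun h0 => hd (IsFractionRing.injective D K (h0.trans (map_zero _).symm))
    rw [map_div₀, ← IsScalarTower.algebraMap_apply, ← IsScalarTower.algebraMap_apply]
    show i e / i d = x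
    rw [he, Algebra.smul_def, mul_comm, div_eq_iff hd']
  exact IsAlgClosed.of_ringEquiv (AlgebraicClosure K) K
    (RingEquiv.ofBijective _ ⟨(algebraMap K (AlgebraicClosure K)).injective, hsurj⟩).symm

variable (A : Type u) [CommRing A]

/-- The product of the algebraic closures of all residue fields. -/
noncomputable abbrev closures : Type u := ∀ p : PrimeSpectrum A, AlgebraicClosure p.asIdeal.ResidueField

/-- The elements integral over `A` in the product of the algebraic closures of the residue fields. -/
noncomputable abbrev bigCover : Subalgebra A (closures A) := integralClosure A (closures A)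

lemma exists_root_bigCover (p : (bigCover A)[X]) (hp : p.Monic) (hd : p.natDegree ≠ 0) :
    ∃ r, p.eval r = 0 := by
  let j : bigCover A →+* closures A := (bigCover A).val.toRingHom
  have hroot : ∀ q : PrimeSpectrum A, ∃ r, (p.map ((Pi.evalRingHom _ q).comp j)).eval r = 0 := fun q =>
    IsAlgClosed.exists_root _ (by
      rw [Polynomial.degree_eq_natDegree (hp.map _).ne_zero, hp.natDegree_map]
      exact_mod_cast hd)
  choose r hr using hroot
  have he : p.eval₂ j r = 0 := funext fun q => by
    have : Pi.evalRingHom (fun q : PrimeSpectrum A => AlgebraicClosure q.asIdeal.ResidueField) q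
        (p.eval₂ j r) = 0 := by
      rw [Polynomial.hom_eval₂]
      simpa [Polynomial.eval_map] using hr q
    exact this
  have hint : IsIntegral A r :=
    isIntegral_trans (R := A) (A := bigCover A) r ⟨p, hp, he⟩
  refine ⟨⟨r, hint⟩, Subtype.ext ?_⟩
  have := Polynomial.eval₂_at_apply (p := p) j ⟨r, hint⟩
  exact this.symm.trans he

lemma surjective_comap_bigCover :
    Function.Surjective (PrimeSpectrum.comap (algebraMap A (bigCover A))) := by
  intro p
  let e : bigCover A →+* AlgebraicClosure p.asIdeal.ResidueField :=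
    (Pi.evalRingHom _ p).comp (bigCover A).val.toRingHom
  refine ⟨⟨RingHom.ker e, RingHom.ker_isPrime e⟩, PrimeSpectrum.ext ?_⟩
  ext a
  show e (algebraMap A (bigCover A) a) = 0 ↔ _
  have : e (algebraMap A (bigCover A) a) =
      algebraMap p.asIdeal.ResidueField _ (algebraMap A p.asIdeal.ResidueField a) := by
    rw [← IsScalarTower.algebraMap_apply]; rfl
  rw [this, map_eq_zero, Ideal.algebraMap_residueField_eq_zero]

variable {A}

lemma residueFieldMap_isIntegral {A B : CommRingCat.{u}} (φ : A ⟶ B) (hφ : φ.hom.IsIntegral) (x : Spec B) :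
    ((Spec.map φ).residueFieldMap x).hom.IsIntegral := by
  let evB : B →+* (Spec B).residueField x := ((Scheme.ΓSpecIso B).inv ≫ (Spec B).Γevaluation x).hom
  let evA : A →+* (Spec A).residueField (Spec.map φ x) :=
    ((Scheme.ΓSpecIso A).inv ≫ (Spec A).Γevaluation (Spec.map φ x)).hom
  let ρ := ((Spec.map φ).residueFieldMap x).hom
  have hcomp : ρ.comp evA = evB.comp φ.hom := by
    ext a
    show (Spec.map φ).residueFieldMap x ((Spec A).Γevaluation _ ((Scheme.ΓSpecIso A).inv a)) =
      (Spec B).Γevaluation x ((Scheme.ΓSpecIso B).inv (φ a))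
    rw [Scheme.Γevaluation_naturality_apply]
    exact congrArg _ (ConcreteCategory.congr_hom (Scheme.ΓSpecIso_inv_naturality φ).symm a)
  have hint : ∀ b, ρ.IsIntegralElem (evB b) := fun b => by
    obtain ⟨P, hP, hev⟩ := hφ b
    refine ⟨P.map evA, hP.map _, ?_⟩
    rw [Polynomial.eval₂_map, hcomp, ← Polynomial.hom_eval₂, hev, map_zero]
  intro z
  let e := (Scheme.Spec.residueFieldIso B x).commRingCatIsoToRingEquiv
  obtain ⟨b, c, -, hbc⟩ := IsFractionRing.div_surjective (A := B ⧸ x.asIdeal) (e z)
  obtain ⟨b, rfl⟩ := Ideal.Quotient.mk_surjective b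
  obtain ⟨c, rfl⟩ := Ideal.Quotient.mk_surjective c
  have hev : ∀ b, e.symm (algebraMap (B ⧸ x.asIdeal) _ (Ideal.Quotient.mk _ b)) = evB b := fun b => by
    exact ConcreteCategory.congr_hom (Scheme.Spec.algebraMap_residueFieldIso_inv B x) b
  have hz : z = evB b / evB c := by
    rw [← e.symm_apply_apply z, ← hbc, map_div₀, hev, hev]
  letI := ρ.toAlgebra
  rw [hz]
  exact IsAlgebraic.isIntegral
    ((IsIntegral.isAlgebraic (hint b)).mul (IsIntegral.isAlgebraic (hint c)).inv)

theorem exists_algClosed_cover (X : Scheme.{u}) [CompactSpace X] [QuasiSeparatedSpace X] :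
    ∃ (X' : Scheme.{u}) (f : X' ⟶ X), IsAffine X' ∧ QuasiCompact f ∧ Surjective f ∧
      ∀ x' : X', IsAlgClosed (X'.residueField x') ∧ (f.residueFieldMap x').hom.IsIntegral := by
  let 𝒰 := X.affineCover.finiteSubcover
  let Y : Scheme.{u} := ∐ 𝒰.X
  let g : Y ⟶ X := Sigma.desc 𝒰.f
  have : SurjectiveOnStalks g :=
    IsZariskiLocalAtSource.sigmaDesc (P := @SurjectiveOnStalks) fun i => inferInstance
  have : Surjective g := ⟨fun x => by
    obtain ⟨i, y, hy⟩ := 𝒰.exists_eq x
    exact ⟨Sigma.ι 𝒰.X i y, by rw [← Scheme.Hom.comp_apply, Sigma.ι_desc]; exact hy⟩⟩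
  let A : CommRingCat.{u} := Γ(Y, ⊤)
  let φ : A ⟶ CommRingCat.of (bigCover A) := CommRingCat.ofHom (algebraMap A (bigCover A))
  have hφ : φ.hom.IsIntegral := fun b => by
    obtain ⟨P, hP, he⟩ := b.2
    refine ⟨P, hP, Subtype.ext ?_⟩
    exact (Polynomial.hom_eval₂ P _ (bigCover A).val.toRingHom b).trans he
  have : Surjective (Spec.map φ) := ⟨surjective_comap_bigCover A⟩
  let f := Spec.map φ ≫ Y.isoSpec.inv ≫ g
  have : QuasiCompact g := inferInstance
  refine ⟨_, f, inferInstance, inferInstance, inferInstance, fun x => ⟨?_, ?_⟩⟩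
  · let q := x.asIdeal
    have : IsAlgClosed q.ResidueField := isAlgClosed_fraction (bigCover A ⧸ q) _ fun p hp hd => by
      obtain ⟨P, hPmap, hPdeg, hP⟩ := Polynomial.lifts_and_degree_eq_and_monic
        (Polynomial.map_surjective (Ideal.Quotient.mk q) Ideal.Quotient.mk_surjective p) hp
      have hnd : P.natDegree = p.natDegree := Polynomial.natDegree_eq_of_degree_eq hPdeg
      obtain ⟨r, hr⟩ := exists_root_bigCover A P hP (hnd ▸ hd)
      refine ⟨Ideal.Quotient.mk q r, ?_⟩
      rw [← hPmap, Polynomial.eval_map, Polynomial.eval₂_at_apply, hr, map_zero]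
    exact IsAlgClosed.of_ringEquiv q.ResidueField _
      (Scheme.Spec.residueFieldIso (CommRingCat.of (bigCover A)) x).commRingCatIsoToRingEquiv.symm
  · let g' := Y.isoSpec.inv ≫ g
    rw [show f.residueFieldMap x = g'.residueFieldMap (Spec.map φ x) ≫ (Spec.map φ).residueFieldMap x from
      Scheme.residueFieldMap_comp _ _ _]
    refine RingHom.IsIntegral.trans (g'.residueFieldMap (Spec.map φ x)).hom ((Spec.map φ).residueFieldMap x).hom
      ?_ (residueFieldMap_isIntegral φ hφ x)
    refine (RingHom.Finite.of_surjective _ ?_).to_isIntegral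
    intro z
    obtain ⟨z, rfl⟩ := IsLocalRing.residue_surjective z
    obtain ⟨w, hw⟩ := g'.stalkMap_surjective (Spec.map φ x) z
    exact ⟨IsLocalRing.residue _ w, (IsLocalRing.ResidueField.map_residue _ _).trans (congrArg _ hw)⟩

end Groth.Agent.Misc24
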