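import Groth.Prelude.Def_EtBaseX
import Groth.Agent.Lib.EtStalk.Basic
import Mathlib

/-!
# The étale local ring at a geometric point is strictly henselian
-/

universe u

open CategoryTheory CategoryTheory.Limits AlgebraicGeometry Opposite Polynomial

namespace Groth.Agent.Misc24

variable {X : Scheme.{u}} {Ω : Type u} [Field Ω] [IsSepClosed Ω] (ξ : Spec (CommRingCat.of Ω) ⟶ X)

/-- Evaluation of a section at a point of the fibre. -/
noncomputable def evalAt (V : X.Etale) (x : (Scheme.pointSmallEtale ξ).fiber.obj V) :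
    (EtBase.OO X).obj (op V) ⟶ CommRingCat.of Ω :=
  Scheme.Hom.appTop (x.left : Spec (CommRingCat.of Ω) ⟶ V.left) ≫ (Scheme.ΓSpecIso (CommRingCat.of Ω)).hom

/-- Evaluation of the étale local ring at the geometric point. -/
noncomputable def evLocal : EtBase.etaleLocalRing ξ ⟶ CommRingCat.of Ω :=
  (Scheme.pointSmallEtale ξ).presheafFiberDesc (evalAt ξ) fun V W g x => by
    show (g.left).appTop ≫ _ = _
    refine (Category.assoc _ _ _).symm.trans ?_
    exact congrArg (· ≫ _) (Scheme.Hom.comp_appTop _ _).symm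

variable (B : CommRingCat.{u}) (i : Spec B ⟶ X) [AlgebraicGeometry.Etale i]
  (σ : B ⟶ CommRingCat.of Ω) (hσ : Spec.map σ ≫ i = ξ)

/-- The germ at an affine étale neighbourhood. -/
noncomputable def germB : B ⟶ EtBase.etaleLocalRing ξ :=
  (Scheme.ΓSpecIso B).inv ≫
    (Scheme.pointSmallEtale ξ).toPresheafFiber (Scheme.Etale.mk i) (Over.homMk (Spec.map σ) hσ) (EtBase.OO X)

lemma ev_germB (b : B) : evLocal ξ (germB ξ B i σ hσ b) = σ b := by
  rw [← ConcreteCategory.comp_apply]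
  refine ConcreteCategory.congr_hom ?_ b
  rw [germB, Category.assoc, evLocal]
  refine (congrArg ((Scheme.ΓSpecIso B).inv ≫ ·)
    (GrothendieckTopology.Point.toPresheafFiber_presheafFiberDesc (Φ := Scheme.pointSmallEtale ξ)
      (P := EtBase.OO X) (evalAt ξ) _ (Scheme.Etale.mk i) (Over.homMk (Spec.map σ) hσ))).trans ?_
  show (Scheme.ΓSpecIso B).inv ≫ (Spec.map σ).appTop ≫ _ = _
  rw [← Category.assoc, ← Scheme.ΓSpecIso_inv_naturality, Category.assoc, Iso.inv_hom_id, Category.comp_id]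

lemma germB_map {C : CommRingCat.{u}} (j : Spec C ⟶ X) [AlgebraicGeometry.Etale j]
    (τ : C ⟶ CommRingCat.of Ω) (hτ : Spec.map τ ≫ j = ξ) (ψ : B ⟶ C)
    (h₁ : Spec.map ψ ≫ i = j) (h₂ : ψ ≫ τ = σ) (b : B) :
    germB ξ C j τ hτ (ψ b) = germB ξ B i σ hσ b := by
  let g : Scheme.Etale.mk j ⟶ Scheme.Etale.mk i := MorphismProperty.Over.homMk (Spec.map ψ) h₁
  have hg : (Scheme.pointSmallEtale ξ).fiber.map g (Over.homMk (Spec.map τ) hτ) =
      Over.homMk (Spec.map σ) hσ := Over.OverMorphism.ext ((Spec.map_comp ψ τ).symm.trans (congrArg Spec.map h₂))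
  rw [← ConcreteCategory.comp_apply]
  refine ConcreteCategory.congr_hom ?_ b
  rw [germB, germB, ← hg, ← GrothendieckTopology.Point.toPresheafFiber_w]
  refine (Category.assoc _ _ _).symm.trans (Eq.trans ?_ (Category.assoc _ _ _))
  exact congrArg (· ≫ _) (Scheme.ΓSpecIso_inv_naturality ψ)

omit [AlgebraicGeometry.Etale i] in
lemma exists_affine (V : X.Etale) (x : (Scheme.pointSmallEtale ξ).fiber.obj V) :
    ∃ (B : CommRingCat.{u}) (i : Spec B ⟶ X) (_ : AlgebraicGeometry.Etale i) (σ : B ⟶ CommRingCat.of Ω)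
      (hσ : Spec.map σ ≫ i = ξ) (g : Scheme.Etale.mk i ⟶ V),
      (Scheme.pointSmallEtale ξ).fiber.map g (Over.homMk (Spec.map σ) hσ) = x := by
  let m : Spec (CommRingCat.of Ω) ⟶ V.left := x.left
  obtain ⟨B, o, ho, hv, -⟩ := Scheme.exists_affine_mem_range_and_range_subset
    (x := m default) (U := (⊤ : V.left.Opens)) trivial
  have hsub : Set.range m ⊆ Set.range o := by
    rintro _ ⟨t, rfl⟩
    rwa [show t = default from Subsingleton.elim (α := PrimeSpectrum Ω) _ _]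
  obtain ⟨σ, hσ⟩ := Spec.map_surjective (IsOpenImmersion.lift o m hsub)
  have hfac : Spec.map σ ≫ o = m := by rw [hσ, IsOpenImmersion.lift_fac]
  let v : V.left ⟶ X := V.hom
  have : AlgebraicGeometry.Etale v := V.prop
  refine ⟨B, o ≫ v, inferInstance, σ, (Category.assoc _ _ _).symm.trans
    ((congrArg (· ≫ v) hfac).trans (Over.w x)), MorphismProperty.Over.homMk o rfl, ?_⟩
  exact Over.OverMorphism.ext hfac

omit [AlgebraicGeometry.Etale i] in
/-- Every element is a germ at an affine étale neighbourhood. -/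
lemma exists_germB (r : EtBase.etaleLocalRing ξ) :
    ∃ (B : CommRingCat.{u}) (i : Spec B ⟶ X) (_ : AlgebraicGeometry.Etale i) (σ : B ⟶ CommRingCat.of Ω)
      (hσ : Spec.map σ ≫ i = ξ) (b : B), germB ξ B i σ hσ b = r := by
  obtain ⟨V, x, s, rfl⟩ := GrothendieckTopology.Point.toPresheafFiber_jointly_surjective
    (Scheme.pointSmallEtale ξ) (P := EtBase.OO X) r
  obtain ⟨B, i, hi, σ, hσ, g, hg⟩ := exists_affine ξ V x
  refine ⟨B, i, hi, σ, hσ, (Scheme.ΓSpecIso B).hom ((EtBase.OO X).map g.op s), ?_⟩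
  rw [germB, ConcreteCategory.comp_apply, ← ConcreteCategory.comp_apply (Scheme.ΓSpecIso B).hom,
    Iso.hom_inv_id, ConcreteCategory.id_apply, ← hg]
  exact GrothendieckTopology.Point.toPresheafFiber_w_apply _ g _ _ s

omit [AlgebraicGeometry.Etale i] in
/-- Two affine neighbourhoods have a common refinement. -/
lemma exists_refine {B C : CommRingCat.{u}} (i : Spec B ⟶ X) [AlgebraicGeometry.Etale i]
    (σ : B ⟶ CommRingCat.of Ω) (hσ : Spec.map σ ≫ i = ξ) (j : Spec C ⟶ X) [AlgebraicGeometry.Etale j]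
    (τ : C ⟶ CommRingCat.of Ω) (hτ : Spec.map τ ≫ j = ξ) :
    ∃ (D : CommRingCat.{u}) (k : Spec D ⟶ X) (_ : AlgebraicGeometry.Etale k) (υ : D ⟶ CommRingCat.of Ω)
      (hυ : Spec.map υ ≫ k = ξ) (ψ : B ⟶ D) (χ : C ⟶ D),
      (∀ b, germB ξ D k υ hυ (ψ b) = germB ξ B i σ hσ b) ∧
      (∀ c, germB ξ D k υ hυ (χ c) = germB ξ C j τ hτ c) := by
  obtain ⟨⟨W, z⟩, ⟨gB, hgB⟩, ⟨gC, hgC⟩, -⟩ := IsCofilteredOrEmpty.cone_objs
    (C := (Scheme.pointSmallEtale ξ).fiber.Elements)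
    ⟨Scheme.Etale.mk i, Over.homMk (Spec.map σ) hσ⟩ ⟨Scheme.Etale.mk j, Over.homMk (Spec.map τ) hτ⟩
  dsimp at hgB hgC
  obtain ⟨D, k, hk, υ, hυ, g, hg⟩ := exists_affine ξ W z
  obtain ⟨ψ, hψ⟩ := Spec.map_surjective (g ≫ gB).left
  obtain ⟨χ, hχ⟩ := Spec.map_surjective (g ≫ gC).left
  refine ⟨D, k, hk, υ, hυ, ψ, χ, fun b => germB_map ξ B i σ hσ k υ hυ ψ ?_ ?_ b,
    fun c => germB_map ξ C j τ hτ k υ hυ χ ?_ ?_ c⟩
  · rw [hψ]; exact MorphismProperty.Over.w (g ≫ gB)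
  · refine Spec.map_injective ?_
    rw [Spec.map_comp, hψ]
    exact congrArg (fun t : (Scheme.pointSmallEtale ξ).fiber.obj _ => t.left) ((Functor.map_comp_apply _ _ _ _).trans ((congrArg _ hg).trans hgB) :
        (Scheme.pointSmallEtale ξ).fiber.map (g ≫ gB) (Over.homMk (Spec.map υ) hυ) = Over.homMk (Spec.map σ) hσ)
  · rw [hχ]; exact MorphismProperty.Over.w (g ≫ gC)
  · refine Spec.map_injective ?_
    rw [Spec.map_comp, hχ]
    exact congrArg (fun t : (Scheme.pointSmallEtale ξ).fiber.obj _ => t.left) ((Functor.map_comp_apply _ _ _ _).trans ((congrArg _ hg).trans hgC) :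
        (Scheme.pointSmallEtale ξ).fiber.map (g ≫ gC) (Over.homMk (Spec.map υ) hυ) = Over.homMk (Spec.map τ) hτ)

omit [AlgebraicGeometry.Etale i] in
lemma exists_poly (f : (EtBase.etaleLocalRing ξ)[X]) :
    ∃ (B : CommRingCat.{u}) (i : Spec B ⟶ X) (_ : AlgebraicGeometry.Etale i) (σ : B ⟶ CommRingCat.of Ω)
      (hσ : Spec.map σ ≫ i = ξ), f ∈ lifts (germB ξ B i σ hσ).hom := by
  induction f using Polynomial.induction_on' with
  | add p q hp hq =>
    obtain ⟨B, i, hi, σ, hσ, P, rfl⟩ := hp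
    obtain ⟨C, j, hj, τ, hτ, Q, rfl⟩ := hq
    obtain ⟨D, k, hk, υ, hυ, ψ, χ, hψ, hχ⟩ := exists_refine ξ i σ hσ j τ hτ
    refine ⟨D, k, hk, υ, hυ, P.map ψ.hom + Q.map χ.hom, ?_⟩
    have e1 : (germB ξ D k υ hυ).hom.comp ψ.hom = (germB ξ B i σ hσ).hom := RingHom.ext hψ
    have e2 : (germB ξ D k υ hυ).hom.comp χ.hom = (germB ξ C j τ hτ).hom := RingHom.ext hχ
    simp only [coe_mapRingHom, Polynomial.map_add, Polynomial.map_map, e1, e2]
  | monomial n a =>
    obtain ⟨B, i, hi, σ, hσ, b, rfl⟩ := exists_germB ξ a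
    exact ⟨B, i, hi, σ, hσ, monomial n b, by simp⟩

omit [AlgebraicGeometry.Etale i] in
lemma isUnit_of_ev {r : EtBase.etaleLocalRing ξ} (h : evLocal ξ r ≠ 0) : IsUnit r := by
  obtain ⟨B, i, hi, σ, hσ, b, rfl⟩ := exists_germB ξ r
  rw [ev_germB] at h
  let C := CommRingCat.of (Localization.Away b)
  let ψ : B ⟶ C := CommRingCat.ofHom (algebraMap B (Localization.Away b))
  let τ : C ⟶ CommRingCat.of Ω :=
    CommRingCat.ofHom (IsLocalization.Away.lift b (g := σ.hom) (isUnit_iff_ne_zero.2 h))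
  have hψτ : ψ ≫ τ = σ := CommRingCat.hom_ext
    (RingHom.ext fun z => IsLocalization.Away.lift_eq (S := Localization.Away b) b
      (g := σ.hom) (isUnit_iff_ne_zero.2 h) z)
  have : IsOpenImmersion (Spec.map ψ) := IsOpenImmersion.of_isLocalization b
  have hτ : Spec.map τ ≫ (Spec.map ψ ≫ i) = ξ := by rw [← Spec.map_comp_assoc, hψτ, hσ]
  rw [← germB_map ξ B i σ hσ (Spec.map ψ ≫ i) τ hτ ψ rfl hψτ b]
  exact (IsLocalization.Away.algebraMap_isUnit b).map (germB ξ C (Spec.map ψ ≫ i) τ hτ).hom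

omit [AlgebraicGeometry.Etale i] in
lemma isUnit_iff_ev (r : EtBase.etaleLocalRing ξ) : IsUnit r ↔ evLocal ξ r ≠ 0 :=
  ⟨fun h => (h.map (evLocal ξ).hom).ne_zero, isUnit_of_ev ξ⟩

lemma nontrivial_etaleLocalRing : Nontrivial (EtBase.etaleLocalRing ξ) :=
  (evLocal ξ).hom.domain_nontrivial

omit [AlgebraicGeometry.Etale i] in
/-- Simple roots lift. -/
lemma exists_root (f : (EtBase.etaleLocalRing ξ)[X]) (hf : f.Monic) (w : Ω)
    (hw : f.eval₂ (evLocal ξ).hom w = 0) (hw' : f.derivative.eval₂ (evLocal ξ).hom w ≠ 0) :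
    ∃ a, f.IsRoot a ∧ evLocal ξ a = w := by
  obtain ⟨B, i, hi, σ, hσ, hl⟩ := exists_poly ξ f
  have := nontrivial_etaleLocalRing ξ
  obtain ⟨P, hP, -, hPm⟩ := lifts_and_degree_eq_and_monic hl hf
  have hev : (evLocal ξ).hom.comp (germB ξ B i σ hσ).hom = σ.hom := RingHom.ext (ev_germB ξ B i σ hσ)
  rw [← hP, eval₂_map, hev] at hw
  rw [← hP, derivative_map, eval₂_map, hev] at hw'
  let SP : StandardEtalePair B := ⟨P, hPm, P.derivative, ⟨1, 0, 1, by simp⟩⟩
  let C := CommRingCat.of SP.Ring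
  have hC : Algebra.Etale B SP.Ring := inferInstance
  let _ := σ.hom.toAlgebra
  have hmap : SP.HasMap w := ⟨hw, isUnit_iff_ne_zero.2 hw'⟩
  let τ : C ⟶ CommRingCat.of Ω := CommRingCat.ofHom (SP.lift w hmap).toRingHom
  let ψ : B ⟶ C := CommRingCat.ofHom (algebraMap B SP.Ring)
  have hψτ : ψ ≫ τ = σ := CommRingCat.hom_ext (SP.lift w hmap).comp_algebraMap
  have : AlgebraicGeometry.Etale (Spec.map ψ) :=
    HasRingHomProperty.Spec_iff.2 (RingHom.etale_algebraMap.2 hC)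
  have hτ : Spec.map τ ≫ (Spec.map ψ ≫ i) = ξ := by rw [← Spec.map_comp_assoc, hψτ, hσ]
  let G := germB ξ C (Spec.map ψ ≫ i) τ hτ
  have hG : G.hom.comp ψ.hom = (germB ξ B i σ hσ).hom :=
    RingHom.ext (germB_map ξ B i σ hσ (Spec.map ψ ≫ i) τ hτ ψ rfl hψτ)
  refine ⟨G SP.X, ?_, ?_⟩
  · rw [IsRoot, ← hP, Polynomial.eval_map, ← hG, ← Polynomial.hom_eval₂]
    have : P.eval₂ ψ.hom SP.X = 0 := SP.hasMap_X.1
    exact (congrArg G.hom this).trans (map_zero _)
  · exact (ev_germB ξ C (Spec.map ψ ≫ i) τ hτ SP.X).trans (SP.lift_X w hmap)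

omit [AlgebraicGeometry.Etale i] in
theorem isStrictlyHenselian_etaleLocalRing :
    EtCoh.IsStrictlyHenselianLocalRing (EtBase.etaleLocalRing ξ) := by
  let R := EtBase.etaleLocalRing ξ
  let e : R →+* Ω := (evLocal ξ).hom
  have hu : ∀ r : R, IsUnit r ↔ e r ≠ 0 := isUnit_iff_ev ξ
  have : Nontrivial R := e.domain_nontrivial
  have : IsLocalRing R := IsLocalRing.of_isUnit_or_isUnit_one_sub_self fun a => by
    by_cases ha : e a = 0
    · exact Or.inr ((hu _).2 (by rw [map_sub, map_one, ha, sub_zero]; exact one_ne_zero))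
    · exact Or.inl ((hu a).2 ha)
  have hmem : ∀ r : R, r ∈ IsLocalRing.maximalIdeal R ↔ e r = 0 := fun r => by
    rw [IsLocalRing.mem_maximalIdeal, mem_nonunits_iff, hu, not_not]
  let ē : IsLocalRing.ResidueField R →+* Ω := Ideal.Quotient.lift _ e fun r hr => (hmem r).1 hr
  have hē : ∀ r, ē (IsLocalRing.residue R r) = e r := fun r => rfl
  have hH : HenselianLocalRing R := ⟨fun f hf a₀ h₁ h₂ => by
    obtain ⟨a, ha, hea⟩ := exists_root ξ f hf (e a₀)
      ((Polynomial.eval₂_at_apply e a₀).trans ((hmem _).1 h₁))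
      (by rw [Polynomial.eval₂_at_apply]; exact (hu _).1 h₂)
    exact ⟨a, ha, (hmem _).2 (by rw [map_sub, show e a = e a₀ from hea, sub_self])⟩⟩
  refine ⟨hH, IsSepClosed.of_exists_root _ fun p hm hp hs => ?_⟩
  obtain ⟨w, hw⟩ := IsSepClosed.exists_eval₂_eq_zero ē p (Polynomial.degree_pos_of_irreducible hp).ne' hs
  obtain ⟨g, hgmap, -, hgm⟩ := lifts_and_degree_eq_and_monic
    (Polynomial.mem_lifts_of_surjective IsLocalRing.residue_surjective p) hm
  have hcomp : ē.comp (IsLocalRing.residue R) = e := RingHom.ext hē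
  obtain ⟨a, ha, -⟩ := exists_root ξ g hgm w
    (by show g.eval₂ e w = 0; rw [← hcomp, ← Polynomial.eval₂_map, hgmap]; exact hw)
    (by show g.derivative.eval₂ e w ≠ 0
        rw [← hcomp, ← Polynomial.eval₂_map, ← derivative_map, hgmap]
        exact hs.eval₂_derivative_ne_zero ē hw)
  refine ⟨IsLocalRing.residue R a, ?_⟩
  rw [← hgmap, Polynomial.eval_map, Polynomial.eval₂_at_apply, show g.eval a = 0 from ha, map_zero]

end Groth.Agent.Misc24
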