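import Groth.Prelude.Def_EtBaseX
import Groth.Agent.Lib.EtStalk.Basic
import Mathlib

/-!
# Points of the small étale site are geometric points
-/

universe u

open CategoryTheory CategoryTheory.Limits AlgebraicGeometry Opposite Polynomial

namespace Groth.Agent.Misc24

section EtalePoint

variable {S : Scheme.{u}} (p : GrothendieckTopology.Point.{u} S.smallEtaleTopology)

/-- The local ring of a point of the étale site. -/
noncomputable abbrev ptRing : CommRingCat.{u} := p.presheafFiber.obj (EtBase.OO S)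

variable (B : CommRingCat.{u}) (i : Spec B ⟶ S) [AlgebraicGeometry.Etale i]
  (x : p.fiber.obj (Scheme.Etale.mk i))

/-- The germ at an affine neighbourhood. -/
noncomputable def germP : B ⟶ ptRing p :=
  (Scheme.ΓSpecIso B).inv ≫ p.toPresheafFiber (Scheme.Etale.mk i) x (EtBase.OO S)

lemma germP_map {C : CommRingCat.{u}} (j : Spec C ⟶ S) [AlgebraicGeometry.Etale j]
    (z : p.fiber.obj (Scheme.Etale.mk j)) (g : Scheme.Etale.mk j ⟶ Scheme.Etale.mk i) (ψ : B ⟶ C)
    (hψ : Spec.map ψ = g.left) (hz : p.fiber.map g z = x) (b : B) :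
    germP p C j z (ψ b) = germP p B i x b := by
  subst hz
  rw [← ConcreteCategory.comp_apply]
  refine ConcreteCategory.congr_hom ?_ b
  rw [germP, germP, ← GrothendieckTopology.Point.toPresheafFiber_w]
  refine (Category.assoc _ _ _).symm.trans (Eq.trans ?_ (Category.assoc _ _ _))
  refine congrArg (· ≫ _) ((Scheme.ΓSpecIso_inv_naturality ψ).trans ?_)
  exact congrArg (fun t : Spec C ⟶ Spec B => (Scheme.ΓSpecIso B).inv ≫ t.appTop) hψ

omit [AlgebraicGeometry.Etale i] in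
lemma exists_affine_pt (V : S.Etale) (v : p.fiber.obj V) :
    ∃ (B : CommRingCat.{u}) (i : Spec B ⟶ S) (_ : AlgebraicGeometry.Etale i)
      (x : p.fiber.obj (Scheme.Etale.mk i)) (g : Scheme.Etale.mk i ⟶ V), p.fiber.map g x = v := by
  let R : Sieve V :=
    { arrows := fun W g => ∃ (B : CommRingCat.{u}) (i : Spec B ⟶ S) (_ : AlgebraicGeometry.Etale i)
        (k : W ⟶ Scheme.Etale.mk i) (g₀ : Scheme.Etale.mk i ⟶ V), k ≫ g₀ = g
      downward_closed := fun {W W'} g ⟨B, i, hi, k, g₀, h⟩ h' =>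
        ⟨B, i, hi, h' ≫ k, g₀, by rw [Category.assoc, h]⟩ }
  have hR : R ∈ S.smallEtaleTopology V := by
    rw [Groth.Agent.EtSite.mem_et_iff]
    intro a
    obtain ⟨B, o, ho, ⟨b, hb⟩, -⟩ := Scheme.exists_affine_mem_range_and_range_subset
      (x := a) (U := (⊤ : V.left.Opens)) trivial
    let h : V.left ⟶ S := V.hom
    have : AlgebraicGeometry.Etale h := V.prop
    let g₀ : Scheme.Etale.mk (o ≫ h) ⟶ V := MorphismProperty.Over.homMk o rfl
    exact ⟨_, g₀, b, ⟨B, o ≫ h, inferInstance, 𝟙 _, g₀, Category.id_comp _⟩, hb⟩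
  obtain ⟨W, g, ⟨B, i, hi, k, g₀, hk⟩, w, hw⟩ := p.jointly_surjective R hR v
  exact ⟨B, i, hi, p.fiber.map k w, g₀, by rw [← Functor.map_comp_apply, hk, hw]⟩

omit [AlgebraicGeometry.Etale i] in
lemma exists_germP (r : ptRing p) :
    ∃ (B : CommRingCat.{u}) (i : Spec B ⟶ S) (_ : AlgebraicGeometry.Etale i)
      (x : p.fiber.obj (Scheme.Etale.mk i)) (b : B), germP p B i x b = r := by
  obtain ⟨V, v, s, rfl⟩ := GrothendieckTopology.Point.toPresheafFiber_jointly_surjective
    p (P := EtBase.OO S) r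
  obtain ⟨B, i, hi, x, g, hg⟩ := exists_affine_pt p V v
  refine ⟨B, i, hi, x, (Scheme.ΓSpecIso B).hom ((EtBase.OO S).map g.op s), ?_⟩
  rw [germP, ConcreteCategory.comp_apply, ← ConcreteCategory.comp_apply (Scheme.ΓSpecIso B).hom,
    Iso.hom_inv_id, ConcreteCategory.id_apply, ← hg]
  exact GrothendieckTopology.Point.toPresheafFiber_w_apply _ g _ _ s

omit [AlgebraicGeometry.Etale i] in
lemma exists_refine_pt {B C : CommRingCat.{u}} (i : Spec B ⟶ S) [AlgebraicGeometry.Etale i]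
    (x : p.fiber.obj (Scheme.Etale.mk i)) (j : Spec C ⟶ S) [AlgebraicGeometry.Etale j]
    (y : p.fiber.obj (Scheme.Etale.mk j)) :
    ∃ (D : CommRingCat.{u}) (k : Spec D ⟶ S) (_ : AlgebraicGeometry.Etale k)
      (z : p.fiber.obj (Scheme.Etale.mk k)) (g : Scheme.Etale.mk k ⟶ Scheme.Etale.mk i)
      (h : Scheme.Etale.mk k ⟶ Scheme.Etale.mk j) (ψ : B ⟶ D) (χ : C ⟶ D),
      p.fiber.map g z = x ∧ p.fiber.map h z = y ∧ Spec.map ψ = g.left ∧ Spec.map χ = h.left ∧
      (∀ b, germP p D k z (ψ b) = germP p B i x b) ∧ (∀ c, germP p D k z (χ c) = germP p C j y c) := by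
  obtain ⟨⟨W, w⟩, ⟨gB, hgB⟩, ⟨gC, hgC⟩, -⟩ := IsCofilteredOrEmpty.cone_objs
    (C := p.fiber.Elements) ⟨Scheme.Etale.mk i, x⟩ ⟨Scheme.Etale.mk j, y⟩
  dsimp at hgB hgC
  obtain ⟨D, k, hk, z, g, hg⟩ := exists_affine_pt p W w
  obtain ⟨ψ, hψ⟩ := Spec.map_surjective (g ≫ gB).left
  obtain ⟨χ, hχ⟩ := Spec.map_surjective (g ≫ gC).left
  have e₁ : p.fiber.map (g ≫ gB) z = x := by rw [Functor.map_comp_apply, hg, hgB]
  have e₂ : p.fiber.map (g ≫ gC) z = y := by rw [Functor.map_comp_apply, hg, hgC]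
  exact ⟨D, k, hk, z, g ≫ gB, g ≫ gC, ψ, χ, e₁, e₂, hψ, hχ, germP_map p B i x k z _ ψ hψ e₁,
    germP_map p C j y k z _ χ hχ e₂⟩

omit [AlgebraicGeometry.Etale i] in
lemma exists_poly_pt (f : (ptRing p)[X]) :
    ∃ (B : CommRingCat.{u}) (i : Spec B ⟶ S) (_ : AlgebraicGeometry.Etale i)
      (x : p.fiber.obj (Scheme.Etale.mk i)), f ∈ lifts (germP p B i x).hom := by
  induction f using Polynomial.induction_on' with
  | add a b ha hb =>
    obtain ⟨B, i, hi, x, P, rfl⟩ := ha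
    obtain ⟨C, j, hj, y, Q, rfl⟩ := hb
    obtain ⟨D, k, hk, z, g, h, ψ, χ, -, -, -, -, hψ, hχ⟩ := exists_refine_pt p i x j y
    refine ⟨D, k, hk, z, P.map ψ.hom + Q.map χ.hom, ?_⟩
    have e1 : (germP p D k z).hom.comp ψ.hom = (germP p B i x).hom := RingHom.ext hψ
    have e2 : (germP p D k z).hom.comp χ.hom = (germP p C j y).hom := RingHom.ext hχ
    simp only [coe_mapRingHom, Polynomial.map_add, Polynomial.map_map, e1, e2]
  | monomial n a =>
    obtain ⟨B, i, hi, x, b, rfl⟩ := exists_germP p a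
    exact ⟨B, i, hi, x, monomial n b, by simp⟩

omit [AlgebraicGeometry.Etale i] in
lemma nontrivial_ptRing : Nontrivial (ptRing p) := by
  by_contra hn
  rw [not_nontrivial_iff_subsingleton] at hn
  obtain ⟨B, i, hi, x, -⟩ := exists_germP p 0
  have h : p.toPresheafFiber (Scheme.Etale.mk i) x (EtBase.OO S) 1 =
      p.toPresheafFiber (Scheme.Etale.mk i) x (EtBase.OO S) 0 := Subsingleton.elim _ _
  obtain ⟨W, f, w, -, he⟩ := (GrothendieckTopology.Point.toPresheafFiber_eq_iff' p _ x _ _).1 h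
  rw [map_one, map_zero] at he
  obtain ⟨C, j, hj, y, g, -⟩ := exists_affine_pt p W w
  have h10 := congrArg ((EtBase.OO S).map g.op) he
  rw [map_one, map_zero] at h10
  have : Subsingleton C := by
    refine subsingleton_of_zero_eq_one ?_
    have h2 : (1 : C) = 0 := (map_one (Scheme.ΓSpecIso C).hom.hom).symm.trans
      ((congrArg (Scheme.ΓSpecIso C).hom h10).trans (map_zero (Scheme.ΓSpecIso C).hom.hom))
    exact h2.symm
  have hR : (⊥ : Sieve (Scheme.Etale.mk j)) ∈ S.smallEtaleTopology (Scheme.Etale.mk j) := by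
    rw [Groth.Agent.EtSite.mem_et_iff]
    intro a
    exact ((PrimeSpectrum.isEmpty_iff_subsingleton (R := C)).2 this).elim a
  obtain ⟨_, _, hf, -⟩ := p.jointly_surjective _ hR y
  exact hf

variable {B}

lemma isUnit_germ_or (b : B) : IsUnit (germP p B i x b) ∨ IsUnit (1 - germP p B i x b) := by
  let T : B → Scheme.{u} := fun e => Spec (CommRingCat.of (Localization.Away e))
  let o : ∀ e : B, T e ⟶ Spec B := fun e => Spec.map (CommRingCat.ofHom (algebraMap B (Localization.Away e)))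
  have ho : ∀ e, IsOpenImmersion (o e) := fun e => IsOpenImmersion.of_isLocalization e
  let g : ∀ e : B, Scheme.Etale.mk (o e ≫ i) ⟶ Scheme.Etale.mk i := fun e =>
    MorphismProperty.Over.homMk (o e) rfl
  let R : Sieve (Scheme.Etale.mk i) :=
    { arrows := fun W h => ∃ e : B, (e = b ∨ e = 1 - b) ∧ ∃ k : W ⟶ Scheme.Etale.mk (o e ≫ i), k ≫ g e = h
      downward_closed := fun {W W'} h ⟨e, he, k, hk⟩ h' => ⟨e, he, h' ≫ k, by rw [Category.assoc, hk]⟩ }
  have hR : R ∈ S.smallEtaleTopology (Scheme.Etale.mk i) := by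
    rw [Groth.Agent.EtSite.mem_et_iff]
    intro a
    have : ∃ e : B, (e = b ∨ e = 1 - b) ∧ a ∈ Set.range (o e) := by
      have hr : ∀ e : B, Set.range (o e) =
          ((PrimeSpectrum.basicOpen e : TopologicalSpace.Opens (PrimeSpectrum B)) : Set (PrimeSpectrum B)) := fun e =>
        PrimeSpectrum.localization_away_comap_range (Localization.Away e) e
      by_cases hb : (b : B) ∈ (a : PrimeSpectrum B).asIdeal
      · refine ⟨1 - b, Or.inr rfl, ?_⟩
        rw [hr]
        intro h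
        exact (a : PrimeSpectrum B).isPrime.ne_top
          ((Ideal.eq_top_iff_one _).2 (by simpa using Ideal.add_mem _ h hb))
      · exact ⟨b, Or.inl rfl, by rw [hr]; exact hb⟩
    obtain ⟨e, he, v, hv⟩ := this
    exact ⟨_, g e, v, ⟨e, he, 𝟙 _, Category.id_comp _⟩, hv⟩
  obtain ⟨W, h, ⟨e, he, k, hk⟩, w, hw⟩ := p.jointly_surjective R hR x
  have hu : IsUnit (germP p B i x e) := by
    rw [← germP_map p B i x (o e ≫ i) (p.fiber.map k w) (g e)
      (CommRingCat.ofHom (algebraMap B (Localization.Away e))) rfl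
      (by rw [← Functor.map_comp_apply, hk, hw]) e]
    exact (IsLocalization.Away.algebraMap_isUnit e).map (germP p _ (o e ≫ i) (p.fiber.map k w)).hom
  rcases he with rfl | rfl
  · exact Or.inl hu
  · refine Or.inr ?_
    rwa [map_sub, map_one] at hu

variable (B)

omit [AlgebraicGeometry.Etale i] in
lemma isLocalRing_ptRing : IsLocalRing (ptRing p) := by
  have := nontrivial_ptRing p
  refine IsLocalRing.of_isUnit_or_isUnit_one_sub_self fun r => ?_
  obtain ⟨B, i, hi, x, b, rfl⟩ := exists_germP p r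
  exact isUnit_germ_or p i x b

attribute [local instance] isLocalRing_ptRing

/-- The residue field of the point. -/
abbrev ptField : Type u := IsLocalRing.ResidueField (ptRing p)

/-- The value of a function at the point. -/
noncomputable def sigmaP : B ⟶ CommRingCat.of (ptField p) :=
  germP p B i x ≫ CommRingCat.ofHom (IsLocalRing.residue (ptRing p))

lemma sigmaP_map {C : CommRingCat.{u}} (j : Spec C ⟶ S) [AlgebraicGeometry.Etale j]
    (z : p.fiber.obj (Scheme.Etale.mk j)) (g : Scheme.Etale.mk j ⟶ Scheme.Etale.mk i) (ψ : B ⟶ C)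
    (hψ : Spec.map ψ = g.left) (hz : p.fiber.map g z = x) :
    ψ ≫ sigmaP p C j z = sigmaP p B i x :=
  CommRingCat.hom_ext (RingHom.ext fun b => congrArg (IsLocalRing.residue (ptRing p))
    (germP_map p B i x j z g ψ hψ hz b))

/-- A neighbourhood lifts to an étale algebra with a point over it. -/
lemma exists_lift_etale (C : CommRingCat.{u}) (ψ : B ⟶ C) [AlgebraicGeometry.Etale (Spec.map ψ)]
    (K : Type u) [Field K] (τ : C →+* K) (j : ptField p →+* K) (hτ : τ.comp ψ.hom = j.comp (sigmaP p B i x).hom) :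
    ∃ x' : p.fiber.obj (Scheme.Etale.mk (Spec.map ψ ≫ i)),
      p.fiber.map (MorphismProperty.Over.homMk (Spec.map ψ) rfl :
        Scheme.Etale.mk (Spec.map ψ ≫ i) ⟶ Scheme.Etale.mk i) x' = x ∧
      ψ ≫ sigmaP p C (Spec.map ψ ≫ i) x' = sigmaP p B i x := by
  let gC : Scheme.Etale.mk (Spec.map ψ ≫ i) ⟶ Scheme.Etale.mk i := MorphismProperty.Over.homMk (Spec.map ψ) rfl
  let P : PrimeSpectrum B := ⟨RingHom.ker (sigmaP p B i x).hom, RingHom.ker_isPrime _⟩
  have hP : P ∈ Set.range (Spec.map ψ) := by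
    refine ⟨⟨RingHom.ker τ, RingHom.ker_isPrime τ⟩, PrimeSpectrum.ext (Ideal.ext fun b => ?_)⟩
    show τ (ψ.hom b) = 0 ↔ (sigmaP p B i x).hom b = 0
    rw [← RingHom.comp_apply, hτ, RingHom.comp_apply, map_eq_zero]
  obtain ⟨_, ⟨e, rfl⟩, heP, hsub⟩ := PrimeSpectrum.isTopologicalBasis_basic_opens.exists_subset_of_mem_open
    hP (Spec.map ψ).isOpenMap.isOpen_range
  have hu : IsUnit (germP p B i x e) := IsLocalRing.residue_ne_zero_iff_isUnit _ |>.1 heP
  obtain ⟨v, hv⟩ := hu.exists_right_inv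
  obtain ⟨C', j', hj', y', c, hc⟩ := exists_germP p v
  obtain ⟨D, k, hk, z, g, h, ψ', χ, hg, -, hψ', -, hg₁, hg₂⟩ := exists_refine_pt p i x j' y'
  have he1 : germP p D k z (ψ' e * χ c) = germP p D k z 1 := by
    rw [map_mul, hg₁, hg₂, hc, hv, map_one]
  obtain ⟨W, fW, w, hw, heW⟩ := (GrothendieckTopology.Point.toPresheafFiber_eq_iff' p _ z _ _).1
    (show p.toPresheafFiber _ z (EtBase.OO S) ((Scheme.ΓSpecIso D).inv (ψ' e * χ c)) =
      p.toPresheafFiber _ z (EtBase.OO S) ((Scheme.ΓSpecIso D).inv 1) from he1)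
  obtain ⟨D', k', hk', z', g', hz'⟩ := exists_affine_pt p W w
  obtain ⟨φ, hφ⟩ := Spec.map_surjective (g' ≫ fW ≫ g).left
  have hφe : IsUnit (φ e) := by
    obtain ⟨φ₁, hφ₁⟩ := Spec.map_surjective (g' ≫ fW).left
    have hcomp : φ = ψ' ≫ φ₁ := Spec.map_injective (by
      rw [hφ, Spec.map_comp, hψ', hφ₁]; rfl)
    refine IsUnit.of_mul_eq_one (φ₁ (χ c)) ?_
    rw [hcomp, ConcreteCategory.comp_apply, ← map_mul]
    have h2 := congrArg (fun t => (Scheme.ΓSpecIso D').hom ((EtBase.OO S).map g'.op t)) heW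
    have key : ∀ d : D, φ₁ d = (Scheme.ΓSpecIso D').hom
        ((EtBase.OO S).map g'.op ((EtBase.OO S).map fW.op ((Scheme.ΓSpecIso D).inv d))) := fun d => by
      rw [← Functor.map_comp_apply, ← op_comp]
      show _ = (Scheme.ΓSpecIso D').hom ((g' ≫ fW).left.appTop ((Scheme.ΓSpecIso D).inv d))
      refine Eq.trans (ConcreteCategory.congr_hom (show φ₁ = (Scheme.ΓSpecIso D).inv ≫
        (g' ≫ fW).left.appTop ≫ (Scheme.ΓSpecIso D').hom from ?_) d) rfl
      rw [← hφ₁, ← Category.assoc]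
      exact ((congrArg (· ≫ _) (Scheme.ΓSpecIso_inv_naturality φ₁).symm).trans
        ((Category.assoc _ _ _).trans (by rw [Iso.inv_hom_id, Category.comp_id]))).symm
    rw [key]
    exact h2.trans ((key 1).symm.trans (map_one _))
  let G : Scheme.Etale.mk k' ⟶ Scheme.Etale.mk i := g' ≫ fW ≫ g
  have hG : p.fiber.map G z' = x := by
    rw [Functor.map_comp_apply, Functor.map_comp_apply, hz', hw, hg]
  let R : Sieve (Scheme.Etale.mk k') :=
    { arrows := fun T t => ∃ l : T ⟶ Scheme.Etale.mk (Spec.map ψ ≫ i), l ≫ gC = t ≫ G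
      downward_closed := fun {T T'} t ⟨l, hl⟩ t' => ⟨t' ≫ l, by rw [Category.assoc, hl, Category.assoc]⟩ }
  have hR : R ∈ S.smallEtaleTopology (Scheme.Etale.mk k') := by
    rw [Groth.Agent.EtSite.mem_et_iff]
    intro a
    have ha : G.left a ∈ Set.range gC.left := hsub (by
      show e ∉ ((G.left a : Spec B) : PrimeSpectrum B).asIdeal
      rw [show G.left = Spec.map φ from hφ.symm]
      exact fun hm => (a : PrimeSpectrum D').isPrime.ne_top (Ideal.eq_top_of_isUnit_mem _ hm hφe))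
    obtain ⟨c', hc'⟩ := ha
    obtain ⟨t, ht, -⟩ := Scheme.exists_preimage_of_isPullback
      ((IsPullback.of_hasPullback G gC).map (Scheme.Etale.forget S ⋙ Over.forget S)) a c' hc'.symm
    exact ⟨_, pullback.fst G gC, t, ⟨pullback.snd G gC, pullback.condition.symm⟩, ht⟩
  obtain ⟨T, t, ⟨l, hl⟩, w', hw'⟩ := p.jointly_surjective R hR z'
  have hx : p.fiber.map gC (p.fiber.map l w') = x := by
    rw [← Functor.map_comp_apply, hl, Functor.map_comp_apply, hw', hG]
  exact ⟨_, hx, sigmaP_map p B i x (Spec.map ψ ≫ i) _ gC ψ rfl hx⟩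

omit [AlgebraicGeometry.Etale i] in
lemma exists_lift_pt (w : ptField p) :
    ∃ (B : CommRingCat.{u}) (i : Spec B ⟶ S) (_ : AlgebraicGeometry.Etale i)
      (x : p.fiber.obj (Scheme.Etale.mk i)) (b : B), sigmaP p B i x b = w := by
  obtain ⟨r, rfl⟩ := IsLocalRing.residue_surjective w
  obtain ⟨B, i, hi, x, b, rfl⟩ := exists_germP p r
  exact ⟨B, i, hi, x, b, rfl⟩

variable {B}

/-- A standard étale pair over a neighbourhood with a point in the residue field lifts. -/
lemma exists_root_pt (f : B[X]) (hf : f.Monic) (w : ptField p)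
    (hw : f.eval₂ (sigmaP p B i x).hom w = 0) (hw' : f.derivative.eval₂ (sigmaP p B i x).hom w ≠ 0) :
    ∃ (D : CommRingCat.{u}) (k : Spec D ⟶ S) (_ : AlgebraicGeometry.Etale k)
      (z : p.fiber.obj (Scheme.Etale.mk k)) (g : Scheme.Etale.mk k ⟶ Scheme.Etale.mk i) (ψ : B ⟶ D) (a : D),
      p.fiber.map g z = x ∧ Spec.map ψ = g.left ∧ f.eval₂ ψ.hom a = 0 ∧ sigmaP p D k z a = w := by
  obtain ⟨C', j', hj', y', c', hc'⟩ := exists_lift_pt p w
  obtain ⟨B₁, i₁, hi₁, x₁, g₁, h₁, ψ₁, χ₁, hg₁, hh₁, hψ₁, hχ₁, -, -⟩ := exists_refine_pt p i x j' y'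
  let s := (sigmaP p B₁ i₁ x₁).hom
  have hs : s.comp ψ₁.hom = (sigmaP p B i x).hom :=
    congrArg CommRingCat.Hom.hom (sigmaP_map p B i x i₁ x₁ g₁ ψ₁ hψ₁ hg₁)
  let c := χ₁ c'
  have hc : s c = w :=
    (ConcreteCategory.congr_hom (sigmaP_map p C' j' y' i₁ x₁ h₁ χ₁ hχ₁ hh₁) c').trans hc'
  let F := f.map ψ₁.hom
  have hFs : F.eval₂ s w = 0 := by rw [Polynomial.eval₂_map, hs]; exact hw
  have hFs' : F.derivative.eval₂ s w ≠ 0 := by
    rw [Polynomial.derivative_map, Polynomial.eval₂_map, hs]; exact hw'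
  let q := F /ₘ (X - C c)
  have hq : (X - C c) * q + C (F.eval c) = F := by
    rw [← modByMonic_X_sub_C_eq_C_eval, add_comm]
    exact modByMonic_add_div F _
  have hFc : s (F.eval c) = 0 := by rw [← Polynomial.eval₂_at_apply, hc]; exact hFs
  have hqw : q.eval₂ s w ≠ 0 := by
    have hd := congrArg (fun t => t.derivative.eval₂ s w) hq
    simp only [derivative_add, derivative_mul, derivative_sub, derivative_X, derivative_C, sub_zero, one_mul,
      add_zero, eval₂_add, eval₂_mul, eval₂_sub, eval₂_X, eval₂_C, hc, sub_self, zero_mul] at hd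
    exact hd ▸ hFs'
  let SP : StandardEtalePair B₁ := ⟨F, hf.map _, F.derivative * q, ⟨q, 0, 1, by ring⟩⟩
  let _ := s.toAlgebra
  have hmap : SP.HasMap w := ⟨hFs, by
    rw [isUnit_iff_ne_zero]
    show Polynomial.eval₂ s w (F.derivative * q) ≠ 0
    rw [eval₂_mul]
    exact mul_ne_zero hFs' hqw⟩
  let ψ : B₁ ⟶ CommRingCat.of SP.Ring := CommRingCat.ofHom (algebraMap B₁ SP.Ring)
  have : AlgebraicGeometry.Etale (Spec.map ψ) :=
    HasRingHomProperty.Spec_iff.2 (RingHom.etale_algebraMap.2 inferInstance)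
  obtain ⟨x', hx', hσ'⟩ := exists_lift_etale p B₁ i₁ x₁ (CommRingCat.of SP.Ring) ψ (ptField p)
    (SP.lift w hmap).toRingHom (RingHom.id _) (SP.lift w hmap).comp_algebraMap
  refine ⟨_, Spec.map ψ ≫ i₁, inferInstance, x', (MorphismProperty.Over.homMk (Spec.map ψ) rfl :
      Scheme.Etale.mk (Spec.map ψ ≫ i₁) ⟶ Scheme.Etale.mk i₁) ≫ g₁, ψ₁ ≫ ψ, SP.X,
    by rw [Functor.map_comp_apply, hx', hg₁], by rw [Spec.map_comp, hψ₁]; rfl, ?_, ?_⟩
  · have h0 : F.eval₂ ψ.hom SP.X = 0 := SP.hasMap_X.1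
    rwa [Polynomial.eval₂_map] at h0
  · let s' := (sigmaP p _ (Spec.map ψ ≫ i₁) x').hom
    have hs' : s'.comp ψ.hom = s := congrArg CommRingCat.Hom.hom hσ'
    have h0 : F.eval₂ s (s' SP.X) = 0 := by
      rw [← hs', ← Polynomial.hom_eval₂, show F.eval₂ ψ.hom SP.X = 0 from SP.hasMap_X.1, map_zero]
    have h1 : q.eval₂ s (s' SP.X) ≠ 0 := by
      have hu := SP.hasMap_X.2.map s'
      rw [show aeval SP.X SP.g = (F.derivative * q).eval₂ ψ.hom SP.X from rfl, eval₂_mul, map_mul,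
        Polynomial.hom_eval₂, Polynomial.hom_eval₂, hs'] at hu
      exact right_ne_zero_of_mul hu.ne_zero
    rw [← hq, eval₂_add, eval₂_mul, eval₂_sub, eval₂_X, eval₂_C, eval₂_C, hc, hFc, add_zero, mul_eq_zero,
      sub_eq_zero] at h0
    exact h0.resolve_right h1

omit [AlgebraicGeometry.Etale i] in
lemma isSepClosed_ptField : IsSepClosed (ptField p) := by
  refine IsSepClosed.of_exists_root _ fun P hm hp hs => ?_
  obtain ⟨G, hG, -, hGm⟩ := lifts_and_degree_eq_and_monic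
    (Polynomial.mem_lifts_of_surjective IsLocalRing.residue_surjective P) hm
  have := nontrivial_ptRing p
  obtain ⟨B, i, hi, x, hl⟩ := exists_poly_pt p G
  obtain ⟨f, hf, -, hfm⟩ := lifts_and_degree_eq_and_monic hl hGm
  let s := (sigmaP p B i x).hom
  have hfP : f.map s = P := by
    rw [← hG, ← hf, Polynomial.map_map]; rfl
  let K := AlgebraicClosure (ptField p)
  let j : ptField p →+* K := algebraMap _ K
  obtain ⟨w, hw⟩ := IsAlgClosed.exists_eval₂_eq_zero j P (Polynomial.degree_pos_of_irreducible hp).ne'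
  let SP : StandardEtalePair B := ⟨f, hfm, f.derivative, ⟨1, 0, 1, by simp⟩⟩
  let _ := (j.comp s).toAlgebra
  have hmap : SP.HasMap w := ⟨by
    show f.eval₂ (j.comp s) w = 0
    rw [← Polynomial.eval₂_map, hfP]; exact hw, by
    rw [isUnit_iff_ne_zero]
    show f.derivative.eval₂ (j.comp s) w ≠ 0
    rw [← Polynomial.eval₂_map, ← derivative_map, hfP]
    exact hs.eval₂_derivative_ne_zero j hw⟩
  let ψ : B ⟶ CommRingCat.of SP.Ring := CommRingCat.ofHom (algebraMap B SP.Ring)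
  have : AlgebraicGeometry.Etale (Spec.map ψ) :=
    HasRingHomProperty.Spec_iff.2 (RingHom.etale_algebraMap.2 inferInstance)
  obtain ⟨x', -, hσ'⟩ := exists_lift_etale p B i x (CommRingCat.of SP.Ring) ψ K
    (SP.lift w hmap).toRingHom j (SP.lift w hmap).comp_algebraMap
  refine ⟨(sigmaP p _ (Spec.map ψ ≫ i) x').hom SP.X, ?_⟩
  rw [← hfP, Polynomial.eval_map, show s = (sigmaP p _ (Spec.map ψ ≫ i) x').hom.comp ψ.hom from
    (congrArg CommRingCat.Hom.hom hσ').symm, ← Polynomial.hom_eval₂,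
    show f.eval₂ ψ.hom SP.X = 0 from SP.hasMap_X.1, map_zero]

end EtalePoint

end Groth.Agent.Misc24
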