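import Mathlib

/-!
# Realising finite residue field extensions on a flat affine scheme of finite presentation
-/

universe u

open CategoryTheory AlgebraicGeometry

namespace Groth.Agent.Misc24

theorem exists_flat_lfp_preimmersion (S : Scheme.{u}) (s : ↥S)
    (ℓ : Type u) [Field ℓ] [Algebra (S.residueField s) ℓ] [Module.Finite (S.residueField s) ℓ] :
    ∃ (U' : Scheme.{u}) (b : U' ⟶ S) (t : Spec (CommRingCat.of ℓ) ⟶ U'),
      IsAffine U' ∧ Flat b ∧ LocallyOfFinitePresentation b ∧ IsPreimmersion t ∧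
        t ≫ b = Spec.map (CommRingCat.ofHom (algebraMap (S.residueField s) ℓ)) ≫ S.fromSpecResidueField s := by
  obtain ⟨V, hV, hsV, -⟩ :=
    exists_isAffineOpen_mem_and_subset (x := s) (U := (⊤ : S.Opens)) trivial
  let A : CommRingCat.{u} := Γ(S, V)
  have hrange : Set.range (S.fromSpecResidueField s) ⊆ Set.range hV.fromSpec := by
    rw [Scheme.range_fromSpecResidueField, hV.range_fromSpec, Set.singleton_subset_iff]
    exact hsV
  obtain ⟨ψ, hψ⟩ := Spec.map_surjective
    (IsOpenImmersion.lift hV.fromSpec (S.fromSpecResidueField s) hrange)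
  have hfac : Spec.map ψ ≫ hV.fromSpec = S.fromSpecResidueField s := by
    rw [hψ]; exact IsOpenImmersion.lift_fac _ _ _
  have : IsPreimmersion (Spec.map ψ ≫ hV.fromSpec) := by rw [hfac]; infer_instance
  have hstalk : ψ.hom.SurjectiveOnStalks :=
    ((IsPreimmersion.SpecMap_iff ψ).1 (IsPreimmersion.of_comp _ hV.fromSpec)).2
  have hdiv : ∀ z : S.residueField s, ∃ a r : A, ψ.hom r ≠ 0 ∧ ψ.hom r * z = ψ.hom a := by
    intro z
    obtain ⟨a, r, c, hc, hr, e⟩ :=
      RingHom.surjectiveOnStalks_iff_forall_ideal.1 hstalk ⊥ bot_ne_top z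
    rw [Ideal.mem_bot] at hc hr
    rw [mul_assoc] at e
    exact ⟨a, r, hr, mul_left_cancel₀ hc e⟩
  let n := Module.finrank (S.residueField s) ℓ
  let w : Fin n → ℓ := Module.finBasis (S.residueField s) ℓ
  let φ : A →+* ℓ := (algebraMap (S.residueField s) ℓ).comp ψ.hom
  let Φ : MvPolynomial (Fin n) A →+* ℓ := MvPolynomial.eval₂Hom φ w
  let g : A ⟶ CommRingCat.of (MvPolynomial (Fin n) A) := CommRingCat.ofHom MvPolynomial.C
  have hmem : ∀ y : ℓ, ∃ a r, Φ r ≠ 0 ∧ Φ r * y = Φ a := by
    intro y
    have hy : y ∈ Submodule.span (S.residueField s) (Set.range w) := by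
      rw [(Module.finBasis (S.residueField s) ℓ).span_eq]; trivial
    induction hy using Submodule.span_induction with
    | mem y hy =>
      obtain ⟨i, rfl⟩ := hy
      exact ⟨MvPolynomial.X i, 1, by simp, by simp [Φ]⟩
    | zero => exact ⟨0, 1, by simp, by simp⟩
    | add x y _ _ hx hy =>
      obtain ⟨a, r, hr, e⟩ := hx
      obtain ⟨a', r', hr', e'⟩ := hy
      refine ⟨a * r' + a' * r, r * r', by rw [map_mul]; exact mul_ne_zero hr hr', ?_⟩
      rw [map_add, map_mul, map_mul, map_mul, ← e, ← e']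
      ring
    | smul z y _ hy =>
      obtain ⟨a, r, hr, e⟩ := hy
      obtain ⟨za, zr, hzr, hz⟩ := hdiv z
      refine ⟨MvPolynomial.C za * a, MvPolynomial.C zr * r, ?_, ?_⟩
      · rw [map_mul]
        refine mul_ne_zero ?_ hr
        simp only [Φ, MvPolynomial.eval₂Hom_C, φ, RingHom.comp_apply]
        exact (map_ne_zero _).2 hzr
      · rw [map_mul, map_mul, ← e, Algebra.smul_def]
        simp only [Φ, MvPolynomial.eval₂Hom_C, φ, RingHom.comp_apply, ← hz, map_mul]
        ring
  let t := Spec.map (CommRingCat.ofHom Φ)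
  refine ⟨Spec (CommRingCat.of (MvPolynomial (Fin n) A)), Spec.map g ≫ hV.fromSpec, t, inferInstance, ?_, ?_, ?_, ?_⟩
  · have : Flat (Spec.map g) := by
      rw [HasRingHomProperty.Spec_iff (P := @Flat)]
      exact RingHom.flat_algebraMap_iff.2 (inferInstance : Module.Flat A (MvPolynomial (Fin n) A))
    infer_instance
  · have : LocallyOfFinitePresentation (Spec.map g) := by
      rw [HasRingHomProperty.Spec_iff (P := @LocallyOfFinitePresentation)]
      exact RingHom.finitePresentation_algebraMap.2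
        (inferInstance : Algebra.FinitePresentation A (MvPolynomial (Fin n) A))
    infer_instance
  · refine IsPreimmersion.mk_SpecMap ?_ (RingHom.surjectiveOnStalks_of_exists_div fun y => ?_)
    · have : Subsingleton (PrimeSpectrum ℓ) := inferInstance
      exact Topology.IsEmbedding.of_subsingleton _
    · obtain ⟨a, r, hr, e⟩ := hmem y
      exact ⟨a, r, isUnit_iff_ne_zero.2 hr, e⟩
  · rw [← hfac, ← Spec.map_comp_assoc, ← Spec.map_comp_assoc]
    congr 2
    ext a
    show Φ (MvPolynomial.C a) = φ a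
    simp [Φ]

end Groth.Agent.Misc24
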