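import Groth.Agent.Lib.AlgSpEt14.HensPt

/-!
# Maps out of strict henselizations that need not be local
-/

universe u v

open IsLocalRing

namespace Groth.Agent.Misc24

open Groth.Agent.Hens

variable {A : Type u} [CommRing A]

theorem existsUnique_lift_Hs {K : Type u} [Field K] [Algebra A K] (T : Type v) [CommRing T]
    [HenselianLocalRing T] [Algebra A T] (r : Hs A K →ₐ[A] ResidueField T) :
    ∃! g : Hs A K →ₐ[A] T, ∀ x, residue T (g x) = r x := by
  have hru : ∀ i : Nbhd A K, ∀ y : i.q.primeCompl,
      IsUnit (r (Hs.of i (algebraMap i.S i.G (y : i.S)))) :=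
    fun i y => ((IsLocalization.map_units (M := i.q.primeCompl) i.G y).map (Hs.of i)).map r
  have key : ∀ i : Nbhd A K, ∃ φ : i.G →ₐ[A] T, ∀ x, residue T (φ x) = r (Hs.of i x) := by
    intro i
    let ρ : i.S →ₐ[A] ResidueField T :=
      r.comp ((Hs.of i).comp (IsScalarTower.toAlgHom A i.S i.G))
    obtain ⟨φ₀, hφ₀, -⟩ := existsUnique_algHom_lift (henselianRing_maximalIdeal T) ρ
    have hφ₀' : ∀ x, residue T (φ₀ x) = ρ x := fun x => congr($hφ₀ x)
    have hu : ∀ y : i.q.primeCompl, IsUnit (φ₀ (y : i.S)) := fun y => by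
      rw [← residue_ne_zero_iff_isUnit, hφ₀']
      exact (hru i y).ne_zero
    let φ : i.G →ₐ[A] T := IsLocalization.liftAlgHom (M := i.q.primeCompl) (f := φ₀) hu
    refine ⟨φ, fun x => ?_⟩
    have : (IsScalarTower.toAlgHom A T (ResidueField T)).comp φ = r.comp (Hs.of i) := by
      refine IsLocalization.algHom_ext i.q.primeCompl ?_
      ext z
      show residue T (φ (algebraMap i.S i.G z)) = ρ z
      rw [show φ (algebraMap i.S i.G z) = φ₀ z from IsLocalization.lift_eq _ z]
      exact hφ₀' z
    exact congr($this x)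
  choose φ hφ using key
  let g : Hs A K →ₐ[A] T := DirectLimit.Algebra.lift (fun i : Nbhd A K => i.G)
    (fun i j h => Nbhd.map (i := i) (j := j) h) T φ (fun i j h x => by
      have : (φ j).comp (Nbhd.map h) = φ i := i.hom_ext fun z => by
        rw [← residue_eq_zero_iff, map_sub, AlgHom.comp_apply, hφ, hφ, Hs.of_map, sub_self]
      exact congr($this x))
  refine ⟨g, fun x => ?_, fun g' hg' => ?_⟩
  · obtain ⟨i, y, rfl⟩ := Hs.exists_of x
    exact hφ i y
  · refine AlgHom.ext fun x => ?_
    obtain ⟨i, y, rfl⟩ := Hs.exists_of x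
    have : g'.comp (Hs.of i) = g.comp (Hs.of i) := i.hom_ext fun z => by
      rw [← residue_eq_zero_iff, map_sub, sub_eq_zero]
      show residue T (g' _) = residue T (φ i _)
      rw [hg', hφ]
      rfl
    exact congr($this y)

variable [IsLocalRing A] (R : Type u) [CommRing R] [IsLocalRing R] [Algebra A R]
  [IsLocalHom (algebraMap A R)] [Hensel.IsStrictHenselization A R]

/-- A map from a strict henselization to a residue field of a henselian ring lifts uniquely. -/
theorem existsUnique_lift (T : Type v) [CommRing T] [HenselianLocalRing T] [Algebra A T]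
    (r : R →ₐ[A] ResidueField T) : ∃! g : R →ₐ[A] T, ∀ x, residue T (g x) = r x := by
  obtain ⟨e⟩ := exists_strictHenselization_equiv A R
  obtain ⟨g, hg, hu⟩ := existsUnique_lift_Hs T (r.comp e.toAlgHom)
  refine ⟨g.comp e.symm.toAlgHom, fun x => ?_, fun g' hg' => ?_⟩
  · show residue T (g (e.symm x)) = r x
    rw [hg]
    show r (e (e.symm x)) = r x
    rw [e.apply_symm_apply]
  · have := hu (g'.comp e.toAlgHom) fun x => hg' (e x)
    ext x
    have h := congr($this (e.symm x))
    simpa using h

/-- A strict henselization maps to every separably closed field over the base ring. -/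
theorem exists_algHom_sepClosed (K : Type u) [Field K] [IsSepClosed K] [Algebra A K] :
    Nonempty (R →ₐ[A] K) := by
  let p : Ideal A := RingHom.ker (algebraMap A K)
  have : p.IsPrime := RingHom.ker_isPrime _
  have := strictHenselization_faithfullyFlat A R
  obtain ⟨q, hq⟩ := PrimeSpectrum.comap_surjective_of_faithfullyFlat (A := A) (B := R) ⟨p, ‹_›⟩
  have hq' : p = q.asIdeal.comap (algebraMap A R) := (congrArg PrimeSpectrum.asIdeal hq).symm
  let m : p.ResidueField →+* q.asIdeal.ResidueField :=
    Ideal.ResidueField.map p q.asIdeal (algebraMap A R) hq'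
  let _ : Algebra p.ResidueField q.asIdeal.ResidueField := m.toAlgebra
  have hm : IsScalarTower A p.ResidueField q.asIdeal.ResidueField :=
    IsScalarTower.of_algebraMap_eq fun a => by
      rw [IsScalarTower.algebraMap_apply A R q.asIdeal.ResidueField]
      exact (Ideal.ResidueField.map_algebraMap p q.asIdeal (algebraMap A R) hq' a).symm
  obtain ⟨e⟩ := exists_strictHenselization_equiv A R
  have hsep : ∀ x : R, IsSeparable p.ResidueField (algebraMap R q.asIdeal.ResidueField x) := fun x => by
    obtain ⟨i, y, hy⟩ := Hs.exists_of (e.symm x)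
    have : Algebra.EssFiniteType A i.G :=
      Algebra.EssFiniteType.comp A i.S i.G
    have : Algebra.FormallyUnramified A i.G := Algebra.FormallyUnramified.comp A i.S i.G
    have h := HensPt14.isSeparable_apply (κ := p.ResidueField)
      ((IsScalarTower.toAlgHom A R q.asIdeal.ResidueField).comp (e.toAlgHom.comp (Hs.of i))) y
    simpa [hy] using h
  have : Algebra.IsSeparable p.ResidueField q.asIdeal.ResidueField := ⟨fun z => by
    obtain ⟨a, b, -, rfl⟩ := IsFractionRing.div_surjective (A := R ⧸ q.asIdeal) z
    obtain ⟨a, rfl⟩ := Ideal.Quotient.mk_surjective a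
    obtain ⟨b, rfl⟩ := Ideal.Quotient.mk_surjective b
    exact mem_separableClosure_iff.1
      (div_mem (mem_separableClosure_iff.2 (hsep a)) (mem_separableClosure_iff.2 (hsep b)))⟩
  let φ : A ⧸ p →+* K := Ideal.Quotient.lift p (algebraMap A K) fun a ha => ha
  have hφ : Function.Injective φ := RingHom.kerLift_injective (algebraMap A K)
  let _ : Algebra p.ResidueField K := (IsFractionRing.lift (A := A ⧸ p) hφ).toAlgebra
  have : IsScalarTower A p.ResidueField K := IsScalarTower.of_algebraMap_eq fun a => by
    exact (IsFractionRing.lift_algebraMap hφ (Ideal.Quotient.mk p a)).symm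
  let l : q.asIdeal.ResidueField →ₐ[p.ResidueField] K := IsSepClosed.lift
  exact ⟨(l.restrictScalars A).comp (IsScalarTower.toAlgHom A R q.asIdeal.ResidueField)⟩

end Groth.Agent.Misc24
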