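import Groth.Prelude.Def_Hens2
import Groth.Agent.Lib.Misc24.SHensMap
import Mathlib

/-!
# Specialisation morphisms between strict localisations
-/

universe u

open CategoryTheory AlgebraicGeometry IsLocalRing

namespace Groth.Agent.Misc24

variable (X : Scheme.{u}) (x x' : X)
  (R : Type u) [CommRing R] [IsLocalRing R] [Algebra (X.presheaf.stalk x) R]
  (R' : Type u) [CommRing R'] [IsLocalRing R'] [Algebra (X.presheaf.stalk x') R']
  [IsLocalHom (algebraMap (X.presheaf.stalk x') R')]

omit [IsLocalHom (algebraMap (X.presheaf.stalk x') R')] in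
lemma specOf_comp_map {B : Type u} [CommRing B] (φ : R →+* B) :
    Spec.map (CommRingCat.ofHom φ) ≫ Hens2.specOf X x R =
      Spec.map (CommRingCat.ofHom (φ.comp (algebraMap (X.presheaf.stalk x) R))) ≫ X.fromSpecStalk x := by
  rw [Hens2.specOf, ← Spec.map_comp_assoc, ← CommRingCat.ofHom_comp]

omit [IsLocalHom (algebraMap (X.presheaf.stalk x') R')] in
lemma ringHom_eq_of_comp {B : Type u} [CommRing B] {f g : X.presheaf.stalk x →+* B}
    (h : Spec.map (CommRingCat.ofHom f) ≫ X.fromSpecStalk x =
      Spec.map (CommRingCat.ofHom g) ≫ X.fromSpecStalk x) : f = g :=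
  congrArg CommRingCat.Hom.hom (Spec.map_injective ((cancel_mono (X.fromSpecStalk x)).1 h))

/-- The map of local rings to the strict henselization at a generisation. -/
noncomputable def specMap (h : x' ⤳ x) : X.presheaf.stalk x →+* R' :=
  (algebraMap (X.presheaf.stalk x') R').comp (X.presheaf.stalkSpecializes h).hom

omit [IsLocalHom (algebraMap (X.presheaf.stalk x') R')] in
lemma specMap_spec (h : x' ⤳ x) :
    Spec.map (CommRingCat.ofHom (specMap X x x' R' h)) ≫ X.fromSpecStalk x = Hens2.specOf X x' R' := by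
  rw [specMap, CommRingCat.ofHom_comp, Spec.map_comp, Category.assoc, CommRingCat.ofHom_hom,
    Scheme.SpecMap_stalkSpecializes_fromSpecStalk]

lemma specializes_of_hom {B : Type u} [CommRing B] [IsLocalRing B]
    (g : Spec (CommRingCat.of B) ⟶ Spec (CommRingCat.of R)) (f : Spec (CommRingCat.of B) ⟶ X)
    (hg : g ≫ Hens2.specOf X x R = f) (p : Spec (CommRingCat.of B)) (hp : f p = x') : x' ⤳ x := by
  have hm : x' ∈ Set.range (X.fromSpecStalk x) := by
    refine ⟨Spec.map (CommRingCat.ofHom (algebraMap (X.presheaf.stalk x) R)) (g p), ?_⟩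
    rw [← hp, ← hg, Hens2.specOf, Scheme.Hom.comp_apply, Scheme.Hom.comp_apply]
  rw [Scheme.range_fromSpecStalk] at hm
  exact hm

lemma geomPt_apply (p : Spec (CommRingCat.of (ResidueField R'))) : Hens2.geomPt X x' R' p = x' := by
  rw [Hens2.geomPt, Hens2.specOf, Scheme.Hom.comp_apply, Scheme.Hom.comp_apply]
  have h : Spec.map (CommRingCat.ofHom (algebraMap (X.presheaf.stalk x') R'))
      (Spec.map (CommRingCat.ofHom (residue R')) p) = closedPoint (X.presheaf.stalk x') := by
    have hp : Spec.map (CommRingCat.ofHom (residue R')) p = closedPoint R' := by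
      refine PrimeSpectrum.ext ?_
      show Ideal.comap (residue R') p.asIdeal = maximalIdeal R'
      rw [Ideal.eq_bot_of_prime p.asIdeal]
      exact IsLocalRing.ker_residue
    rw [hp]
    exact IsLocalRing.comap_closedPoint (algebraMap (X.presheaf.stalk x') R')
  rw [h]
  exact Scheme.fromSpecStalk_closedPoint

variable [IsLocalHom (algebraMap (X.presheaf.stalk x) R)]
  [Hensel.IsStrictHenselization (X.presheaf.stalk x) R]
  [Hensel.IsStrictHenselization (X.presheaf.stalk x') R']

theorem exists_extension (h : Spec (CommRingCat.of (ResidueField R')) ⟶ Spec (CommRingCat.of R))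
    (hh : h ≫ Hens2.specOf X x R = Hens2.geomPt X x' R') :
    ∃ g : Spec (CommRingCat.of R') ⟶ Spec (CommRingCat.of R),
      g ≫ Hens2.specOf X x R = Hens2.specOf X x' R' ∧
      Spec.map (CommRingCat.ofHom (residue R')) ≫ g = h := by
  have hs := specializes_of_hom X x x' R h _ hh (closedPoint _) (geomPt_apply X x' R' _)
  let _ : Algebra (X.presheaf.stalk x) R' := (specMap X x x' R' hs).toAlgebra
  have : HenselianLocalRing R' := Hensel.IsStrictHenselization.henselian (R := X.presheaf.stalk x')
  obtain ⟨ψ, rfl⟩ := Spec.map_surjective h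
  have hψ : ψ.hom.comp (algebraMap (X.presheaf.stalk x) R) = (residue R').comp (specMap X x x' R' hs) := by
    refine ringHom_eq_of_comp X x ?_
    rw [← specOf_comp_map, CommRingCat.ofHom_hom, hh, Hens2.geomPt, CommRingCat.ofHom_comp, Spec.map_comp,
      Category.assoc, specMap_spec]
  let r : R →ₐ[X.presheaf.stalk x] ResidueField R' := { ψ.hom with commutes' := fun a => congr($hψ a) }
  obtain ⟨g, hg, -⟩ := existsUnique_lift R R' r
  refine ⟨Spec.map (CommRingCat.ofHom g.toRingHom), ?_, ?_⟩
  · rw [specOf_comp_map, ← specMap_spec X x x' R' hs]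
    exact congrArg (fun e => Spec.map (CommRingCat.ofHom e) ≫ X.fromSpecStalk x) g.comp_algebraMap
  · rw [← Spec.map_comp]
    refine congrArg Spec.map ?_
    ext a
    exact hg a

theorem extension_unique (g₁ g₂ : Spec (CommRingCat.of R') ⟶ Spec (CommRingCat.of R))
    (h₁ : g₁ ≫ Hens2.specOf X x R = Hens2.specOf X x' R') (h₂ : g₂ ≫ Hens2.specOf X x R = Hens2.specOf X x' R')
    (h : Spec.map (CommRingCat.ofHom (residue R')) ≫ g₁ = Spec.map (CommRingCat.ofHom (residue R')) ≫ g₂) :
    g₁ = g₂ := by
  have : HenselianLocalRing R' := Hensel.IsStrictHenselization.henselian (R := X.presheaf.stalk x')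
  obtain ⟨φ₁, rfl⟩ := Spec.map_surjective g₁
  obtain ⟨φ₂, rfl⟩ := Spec.map_surjective g₂
  have hA : φ₂.hom.comp (algebraMap (X.presheaf.stalk x) R) = φ₁.hom.comp (algebraMap (X.presheaf.stalk x) R) := by
    refine ringHom_eq_of_comp X x ?_
    rw [← specOf_comp_map, ← specOf_comp_map]
    exact h₂.trans h₁.symm
  let _ : Algebra (X.presheaf.stalk x) R' := (φ₁.hom.comp (algebraMap (X.presheaf.stalk x) R)).toAlgebra
  let a₁ : R →ₐ[X.presheaf.stalk x] R' := { φ₁.hom with commutes' := fun _ => rfl }
  let a₂ : R →ₐ[X.presheaf.stalk x] R' := { φ₂.hom with commutes' := fun a => congr($hA a) }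
  rw [← Spec.map_comp, ← Spec.map_comp] at h
  have hres := Spec.map_injective h
  obtain ⟨g, -, hu⟩ := existsUnique_lift R R' ((IsScalarTower.toAlgHom (X.presheaf.stalk x) R' (ResidueField R')).comp a₁)
  have e : a₁ = a₂ := (hu a₁ fun _ => rfl).trans (hu a₂ fun z => (congr($hres z)).symm).symm
  refine congrArg Spec.map (CommRingCat.hom_ext ?_)
  exact congrArg AlgHom.toRingHom e

theorem exists_iff_specializes :
    (∃ g : Spec (CommRingCat.of R') ⟶ Spec (CommRingCat.of R), g ≫ Hens2.specOf X x R = Hens2.specOf X x' R') ↔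
      x' ⤳ x := by
  constructor
  · rintro ⟨g, hg⟩
    refine specializes_of_hom X x x' R (Spec.map (CommRingCat.ofHom (residue R')) ≫ g) (Hens2.geomPt X x' R')
      ?_ (closedPoint _) (geomPt_apply X x' R' _)
    rw [Category.assoc, hg, Hens2.geomPt]
  · intro hs
    have := (Hensel.IsStrictHenselization.isSepClosure (R := X.presheaf.stalk x') (S := R')).1
    let _ : Algebra (X.presheaf.stalk x) (ResidueField R') :=
      ((residue R').comp (specMap X x x' R' hs)).toAlgebra
    obtain ⟨r⟩ := exists_algHom_sepClosed (A := X.presheaf.stalk x) R (ResidueField R')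
    obtain ⟨g, hg, -⟩ := exists_extension X x x' R R' (Spec.map (CommRingCat.ofHom r.toRingHom)) (by
      rw [specOf_comp_map, show r.toRingHom.comp (algebraMap (X.presheaf.stalk x) R) =
        (residue R').comp (specMap X x x' R' hs) from r.comp_algebraMap, CommRingCat.ofHom_comp, Spec.map_comp,
        Category.assoc, specMap_spec, Hens2.geomPt])
    exact ⟨g, hg⟩

end Groth.Agent.Misc24
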